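import Groth.Agent.Neron.K446.AbhSec
import Mathlib.AlgebraicGeometry.Morphisms.Etale
import Mathlib.AlgebraicGeometry.Morphisms.Finite

/-!
# Sections of finite étale schemes over `R[1/x]` do not change under extension of `R`
-/

set_option autoImplicit false
universe u

open IsLocalRing CategoryTheory CategoryTheory.Limits AlgebraicGeometry

namespace Groth.Agent.Neron.K446.AbhSch

/-- Scheme version of `AbhSec.exists_hom`. -/
theorem exists_section {R R' : Type u} [CommRing R] [IsRegularLocalRing R] [HenselianLocalRing R]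
    [IsSepClosed (ResidueField R)] [CharZero (ResidueField R)] [CommRing R'] [IsRegularLocalRing R']
    (φ : R →+* R') (x : R) (hx : x ∈ maximalIdeal R) (hx2 : x ∉ maximalIdeal R ^ 2)
    (y : R') (hy : φ x = y) (hx' : y ∈ maximalIdeal R') (hx2' : y ∉ maximalIdeal R' ^ 2)
    (β : Localization.Away x →+* Localization.Away y)
    (hβ : β.comp (algebraMap R _) = (algebraMap R' _).comp φ)
    {E : Scheme.{u}} (e : E ⟶ Spec (CommRingCat.of (Localization.Away x))) [IsFinite e] [Etale e]
    (g : Spec (CommRingCat.of (Localization.Away y)) ⟶ E) (hg : g ≫ e = Spec.map (CommRingCat.ofHom β)) :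
    ∃ s : Spec (CommRingCat.of (Localization.Away x)) ⟶ E, s ≫ e = 𝟙 _ ∧
      Spec.map (CommRingCat.ofHom β) ≫ s = g := by
  subst hy
  have hE : IsAffine E := isAffine_of_isAffineHom e
  let C : CommRingCat.{u} := Γ(E, ⊤)
  let e₁ : Spec C ⟶ Spec (CommRingCat.of (Localization.Away x)) := E.isoSpec.inv ≫ e
  have he₁ : IsFinite e₁ := inferInstance
  have he₂ : Etale e₁ := inferInstance
  obtain ⟨γ, hγ⟩ := Spec.map_surjective e₁
  obtain ⟨g₁, hg₁⟩ := Spec.map_surjective (g ≫ E.isoSpec.hom)
  let algB : Algebra (Localization.Away x) C := γ.hom.toAlgebra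
  let algR : Algebra R C := (γ.hom.comp (algebraMap R (Localization.Away x))).toAlgebra
  have htow : IsScalarTower R (Localization.Away x) C := IsScalarTower.of_algebraMap_eq fun _ => rfl
  have hfin : Module.Finite (Localization.Away x) C := by
    have h1 : IsFinite (Spec.map γ) := by rw [hγ]; exact he₁
    exact (IsFinite.SpecMap_iff (f := γ)).mp h1
  have het : Algebra.Etale (Localization.Away x) C := by
    have h1 : Etale (Spec.map γ) := by rw [hγ]; exact he₂
    exact (HasRingHomProperty.Spec_iff (P := @Etale)).mp h1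
  have hcomp : γ ≫ g₁ = CommRingCat.ofHom β := by
    apply Spec.map_injective
    rw [Spec.map_comp, hg₁, hγ, Category.assoc, Iso.hom_inv_id_assoc, hg]
  have hcomp' : g₁.hom.comp γ.hom = β := congrArg CommRingCat.Hom.hom hcomp
  obtain ⟨f, hf1, hf2⟩ := AbhSec.exists_hom φ x hx hx2 hx' hx2' C g₁.hom (by
    change g₁.hom.comp (γ.hom.comp (algebraMap R (Localization.Away x))) = _
    rw [← RingHom.comp_assoc, hcomp', hβ])
  have hf1' : γ ≫ CommRingCat.ofHom f = 𝟙 _ := by
    ext b
    exact RingHom.congr_fun hf1 b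
  have hf2' : CommRingCat.ofHom f ≫ CommRingCat.ofHom β = g₁ := by
    ext b
    exact RingHom.congr_fun (hf2 β hβ) b
  refine ⟨Spec.map (CommRingCat.ofHom f) ≫ E.isoSpec.inv, ?_, ?_⟩
  · have h2 : Spec.map (CommRingCat.ofHom f) ≫ e₁ = 𝟙 _ := by
      rw [← hγ, ← Spec.map_comp, hf1', Spec.map_id]
    rw [Category.assoc]
    exact h2
  · rw [← Category.assoc, ← Spec.map_comp, hf2', hg₁, Category.assoc, Iso.hom_inv_id, Category.comp_id]

end Groth.Agent.Neron.K446.AbhSch
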