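import Groth.Agent.Neron.K446.KumSplit
import Groth.Agent.Sga7.H665.Kum

/-!
# Points of finite étale algebras over `R[1/x]` do not change under extension of `R`

`R` strictly henselian regular local of residue characteristic zero, `x` a member of a regular system of
parameters, `φ : R → R'` a ring homomorphism (not necessarily local) to a regular local ring such that
`φ x` is again a member of a regular system of parameters.  For a finite étale `R[1/x]`-algebra `C` every
`R[1/x]`-homomorphism `C → R'[1/φ x]` comes from a homomorphism `C → R[1/x]`.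
-/

set_option autoImplicit false
universe u

open IsLocalRing TensorProduct

namespace Groth.Agent.Neron.K446.AbhSec

open Groth.Agent.Neron.K446.KumSplit

/-- The invariants of the twist by a primitive root of unity. -/
theorem mem_range_of_fixed (B Q : Type*) [CommRing B] [IsDomain B] [CommRing Q] [Algebra B Q] (t : Q) (N : ℕ)
    (x : B) (ht : t ^ N = algebraMap B Q x) (hgen : Algebra.adjoin B {t} = ⊤)
    (ζ : B) (hζ : IsPrimitiveRoot ζ N) (hNu : IsUnit (N : B))
    (σ : Q →ₐ[B] Q) (hσ : σ t = algebraMap B Q ζ * t) (q : Q) (hq : σ q = q) :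
    q ∈ Set.range (algebraMap B Q) := by
  have hσk : ∀ k : ℕ, (σ ^ k) t = algebraMap B Q (ζ ^ k) * t := by
    intro k
    induction k with
    | zero => simp
    | succ k ih =>
      rw [pow_succ, AlgHom.mul_apply, hσ, map_mul, AlgHom.commutes, ih, ← mul_assoc, ← map_mul]
      congr 2
      ring
  have hqk : ∀ k : ℕ, (σ ^ k) q = q := by
    intro k
    induction k with
    | zero => simp
    | succ k ih => rw [pow_succ, AlgHom.mul_apply, hq, ih]
  have hmono : ∀ i : ℕ, (∑ k ∈ Finset.range N, (σ ^ k) (t ^ i)) ∈ Set.range (algebraMap B Q) := by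
    intro i
    by_cases hi : N ∣ i
    · obtain ⟨j, rfl⟩ := hi
      have h1 : t ^ (N * j) = algebraMap B Q (x ^ j) := by rw [pow_mul, ht, map_pow]
      simp only [h1, AlgHom.commutes]
      exact ⟨∑ _k ∈ Finset.range N, x ^ j, by rw [map_sum]⟩
    · have h2 : ∀ k ∈ Finset.range N, (σ ^ k) (t ^ i) = algebraMap B Q ((ζ ^ i) ^ k) * t ^ i := by
        intro k _
        rw [map_pow, hσk, mul_pow, ← map_pow, ← pow_mul, ← pow_mul, mul_comm k i]
      rw [Finset.sum_congr rfl h2, ← Finset.sum_mul, ← map_sum]
      have h3 : (∑ k ∈ Finset.range N, (ζ ^ i) ^ k) = 0 := by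
        have h4 := geom_sum_mul (ζ ^ i) N
        rw [← pow_mul, mul_comm i N, pow_mul, hζ.pow_eq_one, one_pow, sub_self] at h4
        rcases mul_eq_zero.mp h4 with h5 | h5
        · exact h5
        · exact absurd ((hζ.pow_eq_one_iff_dvd i).mp (sub_eq_zero.mp h5)) hi
      rw [h3, map_zero, zero_mul]
      exact ⟨0, map_zero _⟩
  have hall : ∀ q : Q, (∑ k ∈ Finset.range N, (σ ^ k) q) ∈ Set.range (algebraMap B Q) := by
    intro q
    have hq : q ∈ Algebra.adjoin B {t} := by rw [hgen]; trivial
    rw [Algebra.adjoin_singleton_eq_range_aeval] at hq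
    obtain ⟨p, rfl⟩ := hq
    change (∑ k ∈ Finset.range N, (σ ^ k) (Polynomial.aeval t p)) ∈ (algebraMap B Q).range
    induction p using Polynomial.induction_on' with
    | add p p' h h' =>
      simp only [map_add, Finset.sum_add_distrib]
      exact Subring.add_mem _ h h'
    | monomial i b =>
      simp only [Polynomial.aeval_monomial, map_mul, AlgHom.commutes]
      rw [← Finset.mul_sum]
      exact Subring.mul_mem _ ⟨b, rfl⟩ (hmono i)
  obtain ⟨b, hb⟩ := hall q
  simp only [hqk] at hb
  rw [Finset.sum_const, Finset.card_range, nsmul_eq_mul] at hb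
  obtain ⟨u, hu⟩ := hNu
  refine ⟨((u⁻¹ : Bˣ) : B) * b, ?_⟩
  rw [map_mul, hb, ← mul_assoc, ← map_natCast (algebraMap B Q), ← map_mul, ← hu, Units.inv_mul, map_one, one_mul]

/-- Homomorphisms from a product of copies of `Q` to a domain are coordinate projections. -/
theorem exists_eq_proj {Q T : Type*} [CommRing Q] [CommRing T] [IsDomain T] {n : ℕ} (ψ : Q →+* T)
    (h : (Fin n → Q) →+* T) (hh : ∀ q : Q, h (fun _ => q) = ψ q) :
    ∃ i : Fin n, ∀ v, h v = ψ (v i) := by
  classical
  have h1 : ∑ i : Fin n, (Pi.single i (1 : Q) : Fin n → Q) = 1 := by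
    have := Finset.univ_sum_single (1 : Fin n → Q)
    simpa using this
  have h2 : ∑ i : Fin n, h (Pi.single i (1 : Q)) = 1 := by rw [← map_sum, h1, map_one]
  obtain ⟨i, hi⟩ : ∃ i : Fin n, h (Pi.single i (1 : Q)) ≠ 0 := by
    by_contra hcon
    push Not at hcon
    rw [Finset.sum_eq_zero (fun i _ => hcon i)] at h2
    exact zero_ne_one h2
  refine ⟨i, fun v => ?_⟩
  have h3 : v * Pi.single i (1 : Q) = (fun _ => v i) * Pi.single i (1 : Q) := by
    funext j
    by_cases hj : j = i
    · subst hj
      rfl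
    · simp [Pi.mul_apply, Pi.single_eq_of_ne hj]
  have h4 := congrArg h h3
  rw [map_mul, map_mul, hh] at h4
  exact mul_right_cancel₀ hi h4

section KumMaps

variable {R R' : Type u} [CommRing R] [CommRing R'] (φ : R →+* R') (x : R)

theorem tt_pow (N : ℕ) : tt R x N ^ N = algebraMap R (Kum R x N) x :=
  Groth.Agent.Sga1.Kummer.T_pow (fun _ : Fin 1 => x) (fun _ => N) 0

theorem adjoin_tt (N : ℕ) : Algebra.adjoin R {tt R x N} = ⊤ := by
  have h := Groth.Agent.Sga1.Kummer.adjoin_T (fun _ : Fin 1 => x) (fun _ => N)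
  rw [← h]
  congr 1
  ext y
  constructor
  · rintro rfl
    exact ⟨0, rfl⟩
  · rintro ⟨i, rfl⟩
    have : i = 0 := Subsingleton.elim _ _
    subst this
    rfl

theorem kum_ringHom_ext {S : Type*} [CommRing S] {N : ℕ} {f g : Kum R x N →+* S}
    (h0 : f.comp (algebraMap R _) = g.comp (algebraMap R _)) (h : f (tt R x N) = g (tt R x N)) : f = g := by
  refine RingHom.ext fun y => ?_
  have hy : y ∈ Algebra.adjoin R {tt R x N} := by rw [adjoin_tt]; trivial
  rw [Algebra.adjoin_singleton_eq_range_aeval] at hy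
  obtain ⟨p, rfl⟩ := hy
  change f (Polynomial.aeval (tt R x N) p) = g (Polynomial.aeval (tt R x N) p)
  induction p using Polynomial.induction_on' with
  | add p p' h1 h2 => simp only [map_add, h1, h2]
  | monomial i b =>
    simp only [Polynomial.aeval_monomial, map_mul, map_pow, h]
    congr 1
    exact RingHom.congr_fun h0 b

/-- The map of Kummer algebras. -/
noncomputable def kumMap (N : ℕ) : Kum R x N →+* Kum R' (φ x) N :=
  letI : Algebra R (Kum R' (φ x) N) := ((algebraMap R' (Kum R' (φ x) N)).comp φ).toAlgebra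
  (Groth.Agent.Sga1.Kummer.lift (fun _ : Fin 1 => x) (fun _ => N) (S := Kum R' (φ x) N)
    (fun _ => tt R' (φ x) N) (fun _ => tt_pow (φ x) N)).toRingHom

theorem kumMap_algebraMap (N : ℕ) (a : R) :
    kumMap φ x N (algebraMap R (Kum R x N) a) = algebraMap R' (Kum R' (φ x) N) (φ a) :=
  letI : Algebra R (Kum R' (φ x) N) := ((algebraMap R' (Kum R' (φ x) N)).comp φ).toAlgebra
  (Groth.Agent.Sga1.Kummer.lift (fun _ : Fin 1 => x) (fun _ => N) (S := Kum R' (φ x) N)
    (fun _ => tt R' (φ x) N) (fun _ => tt_pow (φ x) N)).commutes a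

theorem kumMap_tt (N : ℕ) : kumMap φ x N (tt R x N) = tt R' (φ x) N :=
  letI : Algebra R (Kum R' (φ x) N) := ((algebraMap R' (Kum R' (φ x) N)).comp φ).toAlgebra
  Groth.Agent.Sga1.Kummer.lift_T (fun _ : Fin 1 => x) (fun _ => N) (S := Kum R' (φ x) N)
    (fun _ => tt R' (φ x) N) (fun _ => tt_pow (φ x) N) 0

/-- The twist by a root of unity. -/
noncomputable def twist (N : ℕ) (ζ : R) (hζ : ζ ^ N = 1) : Kum R x N →ₐ[R] Kum R x N :=
  Groth.Agent.Sga1.Kummer.lift (fun _ : Fin 1 => x) (fun _ => N) (fun _ => algebraMap R _ ζ * tt R x N)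
    (fun _ => by rw [mul_pow, ← map_pow, hζ, map_one, one_mul]; exact tt_pow x N)

theorem twist_tt (N : ℕ) (ζ : R) (hζ : ζ ^ N = 1) :
    twist x N ζ hζ (tt R x N) = algebraMap R _ ζ * tt R x N :=
  Groth.Agent.Sga1.Kummer.lift_T (fun _ : Fin 1 => x) (fun _ => N)
    (fun _ => algebraMap R _ ζ * tt R x N) _ 0

theorem kumMap_twist (N : ℕ) (ζ : R) (hζ : ζ ^ N = 1) (hζ' : φ ζ ^ N = 1) (y : Kum R x N) :
    kumMap φ x N (twist x N ζ hζ y) = twist (φ x) N (φ ζ) hζ' (kumMap φ x N y) := by
  have h : (kumMap φ x N).comp (twist x N ζ hζ : Kum R x N →+* Kum R x N) =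
      (twist (φ x) N (φ ζ) hζ' : Kum R' (φ x) N →+* Kum R' (φ x) N).comp (kumMap φ x N) := by
    refine kum_ringHom_ext x ?_ ?_
    · refine RingHom.ext fun a => ?_
      simp only [RingHom.comp_apply, RingHom.coe_coe, AlgHom.commutes, kumMap_algebraMap]
    · simp only [RingHom.comp_apply, RingHom.coe_coe, twist_tt, kumMap_tt, map_mul, kumMap_algebraMap]
  exact RingHom.congr_fun h y

/-- The localized Kummer algebra. -/
abbrev KumX (R : Type u) [CommRing R] (x : R) (N : ℕ) : Type u :=
  Localization.Away (algebraMap R (Kum R x N) x)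

theorem isUnit_KumX (N : ℕ) : IsUnit (algebraMap R (KumX R x N) x) := by
  rw [IsScalarTower.algebraMap_apply R (Kum R x N) (KumX R x N)]
  exact IsLocalization.Away.algebraMap_isUnit (S := KumX R x N) (algebraMap R (Kum R x N) x)

/-- The inclusion `R[1/x] → R[1/x][t]`. -/
noncomputable def incl (N : ℕ) : Localization.Away x →+* KumX R x N :=
  IsLocalization.Away.lift x (isUnit_KumX x N)

theorem incl_algebraMap (N : ℕ) (a : R) : incl x N (algebraMap R _ a) = algebraMap R (KumX R x N) a :=
  IsLocalization.Away.lift_eq x (isUnit_KumX x N) a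

theorem isUnit_kumMap (N : ℕ) : IsUnit (((algebraMap (Kum R' (φ x) N) (KumX R' (φ x) N)).comp
    (kumMap φ x N)) (algebraMap R (Kum R x N) x)) := by
  rw [RingHom.comp_apply, kumMap_algebraMap]
  exact IsLocalization.Away.algebraMap_isUnit (S := KumX R' (φ x) N) _

/-- The localized map of Kummer algebras. -/
noncomputable def kumXMap (N : ℕ) : KumX R x N →+* KumX R' (φ x) N :=
  IsLocalization.Away.lift (algebraMap R (Kum R x N) x) (isUnit_kumMap φ x N)

theorem kumXMap_algebraMap (N : ℕ) (a : Kum R x N) :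
    kumXMap φ x N (algebraMap _ _ a) = algebraMap _ (KumX R' (φ x) N) (kumMap φ x N a) :=
  IsLocalization.Away.lift_eq _ (isUnit_kumMap φ x N) a

theorem kumXMap_algebraMap' (N : ℕ) (a : R) :
    kumXMap φ x N (algebraMap R _ a) = algebraMap R' (KumX R' (φ x) N) (φ a) := by
  rw [IsScalarTower.algebraMap_apply R (Kum R x N) (KumX R x N), kumXMap_algebraMap, kumMap_algebraMap,
    ← IsScalarTower.algebraMap_apply R' (Kum R' (φ x) N)]

theorem isUnit_twist (N : ℕ) (ζ : R) (hζ : ζ ^ N = 1) :
    IsUnit (((algebraMap (Kum R x N) (KumX R x N)).comp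
    (twist x N ζ hζ : Kum R x N →+* Kum R x N)) (algebraMap R (Kum R x N) x)) := by
  rw [RingHom.comp_apply, RingHom.coe_coe, AlgHom.commutes]
  exact IsLocalization.Away.algebraMap_isUnit (S := KumX R x N) _

/-- The localized twist. -/
noncomputable def twistX (N : ℕ) (ζ : R) (hζ : ζ ^ N = 1) : KumX R x N →+* KumX R x N :=
  IsLocalization.Away.lift (algebraMap R (Kum R x N) x) (isUnit_twist x N ζ hζ)

theorem twistX_algebraMap (N : ℕ) (ζ : R) (hζ : ζ ^ N = 1) (a : Kum R x N) :
    twistX x N ζ hζ (algebraMap _ _ a) = algebraMap _ (KumX R x N) (twist x N ζ hζ a) :=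
  IsLocalization.Away.lift_eq _ (isUnit_twist x N ζ hζ) a

theorem twistX_algebraMap' (N : ℕ) (ζ : R) (hζ : ζ ^ N = 1) (a : R) :
    twistX x N ζ hζ (algebraMap R _ a) = algebraMap R _ a := by
  rw [IsScalarTower.algebraMap_apply R (Kum R x N) (KumX R x N), twistX_algebraMap, AlgHom.commutes]

theorem twistX_incl (N : ℕ) (ζ : R) (hζ : ζ ^ N = 1) (b : Localization.Away x) :
    twistX x N ζ hζ (incl x N b) = incl x N b := by
  have h : (twistX x N ζ hζ).comp (incl x N) = incl x N := by
    refine IsLocalization.ringHom_ext (Submonoid.powers x) (RingHom.ext fun a => ?_)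
    simp only [RingHom.comp_apply, incl_algebraMap, twistX_algebraMap']
  exact RingHom.congr_fun h b

theorem kumXMap_twistX (N : ℕ) (ζ : R) (hζ : ζ ^ N = 1) (hζ' : φ ζ ^ N = 1) (y : KumX R x N) :
    kumXMap φ x N (twistX x N ζ hζ y) = twistX (φ x) N (φ ζ) hζ' (kumXMap φ x N y) := by
  have h : (kumXMap φ x N).comp (twistX x N ζ hζ) = (twistX (φ x) N (φ ζ) hζ').comp (kumXMap φ x N) := by
    refine IsLocalization.ringHom_ext (Submonoid.powers (algebraMap R (Kum R x N) x))
      (RingHom.ext fun a => ?_)
    simp only [RingHom.comp_apply, twistX_algebraMap, kumXMap_algebraMap]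
    rw [kumMap_twist φ x N ζ hζ hζ']
  exact RingHom.congr_fun h y

theorem incl_injective (N : ℕ) [IsRegularLocalRing R] [IsDomain R] [IsDomain (Kum R x N)] (hN : 1 ≤ N) (hx0 : x ≠ 0) :
    Function.Injective (incl x N) := by
  have hk := injective_kum R x N hN
  have hx1 : algebraMap R (Kum R x N) x ≠ 0 := by
    rw [Ne, ← map_zero (algebraMap R (Kum R x N))]
    exact fun h => hx0 (hk h)
  have hq : Function.Injective (algebraMap (Kum R x N) (KumX R x N)) :=
    IsLocalization.injective _ (powers_le_nonZeroDivisors_of_noZeroDivisors hx1)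
  have hR : Function.Injective (algebraMap R (Localization.Away x)) :=
    IsLocalization.injective _ (powers_le_nonZeroDivisors_of_noZeroDivisors hx0)
  have hRQ : Function.Injective (algebraMap R (KumX R x N)) := by
    rw [IsScalarTower.algebraMap_eq R (Kum R x N) (KumX R x N)]
    exact hq.comp hk
  refine (IsLocalization.lift_injective_iff (M := Submonoid.powers x) (S := Localization.Away x) _).mpr
    fun a b => ?_
  exact ⟨fun h => congrArg _ (hR h), fun h => congrArg _ (hRQ h)⟩

end KumMaps

/-- `B[t]` is generated by `t` over `B = R[1/x]`. -/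
theorem adjoin_ttX {R : Type u} [CommRing R] (x : R) (N : ℕ) :
    letI : Algebra (Localization.Away x) (KumX R x N) := (incl x N).toAlgebra
    Algebra.adjoin (Localization.Away x) {algebraMap (Kum R x N) (KumX R x N) (tt R x N)} = ⊤ := by
  let : Algebra (Localization.Away x) (KumX R x N) := (incl x N).toAlgebra
  rw [eq_top_iff]
  rintro y -
  obtain ⟨a, s, rfl⟩ := IsLocalization.exists_mk'_eq (Submonoid.powers (algebraMap R (Kum R x N) x)) y
  obtain ⟨k, hk⟩ := s.2
  have hk' : (s : Kum R x N) = algebraMap R (Kum R x N) (x ^ k) := by rw [map_pow]; exact hk.symm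
  have h1 : ∀ a : Kum R x N, algebraMap (Kum R x N) (KumX R x N) a ∈
      Algebra.adjoin (Localization.Away x) {algebraMap (Kum R x N) (KumX R x N) (tt R x N)} := by
    intro a
    have ha : a ∈ Algebra.adjoin R {tt R x N} := by rw [adjoin_tt]; trivial
    induction ha using Algebra.adjoin_induction with
    | mem z hz =>
      rw [Set.mem_singleton_iff.mp hz]
      exact Algebra.subset_adjoin rfl
    | algebraMap r =>
      rw [← IsScalarTower.algebraMap_apply R (Kum R x N) (KumX R x N), ← incl_algebraMap]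
      exact Subalgebra.algebraMap_mem _ (algebraMap R (Localization.Away x) r)
    | add a b _ _ ha hb => rw [map_add]; exact Subalgebra.add_mem _ ha hb
    | mul a b _ _ ha hb => rw [map_mul]; exact Subalgebra.mul_mem _ ha hb
  have h2 : IsLocalization.mk' (KumX R x N) a s =
      incl x N (IsLocalization.mk' (Localization.Away x) (1 : R) (⟨x ^ k, ⟨k, rfl⟩⟩ : Submonoid.powers x)) *
        algebraMap (Kum R x N) (KumX R x N) a := by
    rw [IsLocalization.mk'_eq_iff_eq_mul, mul_right_comm, hk',
      ← IsScalarTower.algebraMap_apply R (Kum R x N) (KumX R x N), ← incl_algebraMap, ← map_mul]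
    have h3 := IsLocalization.mk'_spec (Localization.Away x) (1 : R) (⟨x ^ k, ⟨k, rfl⟩⟩ : Submonoid.powers x)
    rw [h3, map_one, map_one, one_mul]
  rw [h2]
  exact Subalgebra.mul_mem _ (Subalgebra.algebraMap_mem _ _) (h1 a)

/-- Invariants of the twist of the localized Kummer algebra. -/
theorem mem_range_incl {R : Type u} [CommRing R] [IsDomain R] (x : R) (hx0 : x ≠ 0) (N : ℕ)
    (hNu : IsUnit (N : R)) (ζ : R) (hζ : IsPrimitiveRoot ζ N) (q : KumX R x N)
    (hq : twistX x N ζ hζ.pow_eq_one q = q) : q ∈ (incl x N).range := by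
  let : Algebra (Localization.Away x) (KumX R x N) := (incl x N).toAlgebra
  have hdB : IsDomain (Localization.Away x) :=
    IsLocalization.isDomain_localization (powers_le_nonZeroDivisors_of_noZeroDivisors hx0)
  have hinjB : Function.Injective (algebraMap R (Localization.Away x)) :=
    IsLocalization.injective _ (powers_le_nonZeroDivisors_of_noZeroDivisors hx0)
  let σ : KumX R x N →ₐ[Localization.Away x] KumX R x N :=
    { twistX x N ζ hζ.pow_eq_one with commutes' := fun b => twistX_incl x N ζ hζ.pow_eq_one b }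
  refine mem_range_of_fixed (Localization.Away x) (KumX R x N)
    (algebraMap (Kum R x N) (KumX R x N) (tt R x N)) N (algebraMap R _ x) ?_ (adjoin_ttX x N)
    (algebraMap R _ ζ) (hζ.map_of_injective hinjB) ?_ σ ?_ q hq
  · rw [← map_pow, tt_pow, ← IsScalarTower.algebraMap_apply R (Kum R x N) (KumX R x N)]
    exact (incl_algebraMap x N x).symm
  · have := hNu.map (algebraMap R (Localization.Away x))
    rwa [map_natCast] at this
  · change twistX x N ζ hζ.pow_eq_one (algebraMap _ _ (tt R x N)) = incl x N (algebraMap R _ ζ) * _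
    rw [twistX_algebraMap, twist_tt, map_mul, incl_algebraMap,
      ← IsScalarTower.algebraMap_apply R (Kum R x N) (KumX R x N)]

section Main

variable {R R' : Type u} [CommRing R] [IsRegularLocalRing R] [HenselianLocalRing R]
  [IsSepClosed (ResidueField R)] [CharZero (ResidueField R)] [CommRing R'] [IsRegularLocalRing R']
  (φ : R →+* R') (x : R)
  (hx : x ∈ maximalIdeal R) (hx2 : x ∉ maximalIdeal R ^ 2)
  (hx' : φ x ∈ maximalIdeal R') (hx2' : φ x ∉ maximalIdeal R' ^ 2)

include hx hx2 hx' hx2'

set_option maxHeartbeats 1000000 in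
/-- Homomorphisms from a finite étale `R[1/x]`-algebra to `R'[1/x]` descend to `R[1/x]`. -/
theorem exists_hom (C : Type u) [CommRing C] [Algebra R C] [Algebra (Localization.Away x) C]
    [IsScalarTower R (Localization.Away x) C]
    [Module.Finite (Localization.Away x) C] [Algebra.Etale (Localization.Away x) C]
    (g : C →+* Localization.Away (φ x))
    (hg : g.comp (algebraMap R C) = (algebraMap R' (Localization.Away (φ x))).comp φ) :
    ∃ f : C →+* Localization.Away x, f.comp (algebraMap (Localization.Away x) C) = RingHom.id _ ∧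
      ∀ β : Localization.Away x →+* Localization.Away (φ x),
        β.comp (algebraMap R _) = (algebraMap R' _).comp φ → β.comp f = g := by
  classical
  have : IsDomain R := Groth.Agent.CalgA.RegBasic.isDomain R
  have : IsDomain R' := Groth.Agent.CalgA.RegBasic.isDomain R'
  have hx0 : x ≠ 0 := by rintro rfl; exact hx2 (Ideal.zero_mem _)
  have hx0' : φ x ≠ 0 := by intro h; rw [h] at hx2'; exact hx2' (Ideal.zero_mem _)
  obtain ⟨N, hN, hsplit⟩ := exists_split R x hx hx2 C
  obtain ⟨n, ⟨e⟩⟩ := Algebra.IsFiniteSplit.nonempty_algEquiv_fun (KumX R x N) (KumX R x N ⊗[R] C)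
  have hdK : IsDomain (Kum R x N) := isDomain_kum R x hx hx2 N hN
  have hdK' : IsDomain (Kum R' (φ x) N) := isDomain_kum R' (φ x) hx' hx2' N hN
  have hxK : algebraMap R (Kum R x N) x ≠ 0 := by
    rw [Ne, ← map_zero (algebraMap R (Kum R x N))]
    exact fun h => hx0 (injective_kum R x N hN h)
  have hxK' : algebraMap R' (Kum R' (φ x) N) (φ x) ≠ 0 := by
    rw [Ne, ← map_zero (algebraMap R' (Kum R' (φ x) N))]
    exact fun h => hx0' (injective_kum R' (φ x) N hN h)
  have hdQ : IsDomain (KumX R x N) :=
    IsLocalization.isDomain_localization (powers_le_nonZeroDivisors_of_noZeroDivisors hxK)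
  have hdQ' : IsDomain (KumX R' (φ x) N) :=
    IsLocalization.isDomain_localization (powers_le_nonZeroDivisors_of_noZeroDivisors hxK')
  have hdB : IsDomain (Localization.Away x) :=
    IsLocalization.isDomain_localization (powers_le_nonZeroDivisors_of_noZeroDivisors hx0)
  have hτ : Function.Injective (incl x N) := incl_injective x N hN hx0
  have hτ' : Function.Injective (incl (φ x) N) := incl_injective (φ x) N hN hx0'
  -- the unit `N` and a primitive root of unity
  have hNu : IsUnit (N : R) := by
    by_contra h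
    have h1 : (N : R) ∈ maximalIdeal R := (mem_maximalIdeal _).mpr h
    have h2 : residue R (N : R) = 0 := (residue_eq_zero_iff _).mpr h1
    rw [map_natCast] at h2
    have h3 : N = 0 := by exact_mod_cast h2
    omega
  obtain ⟨ζ, hζ⟩ := Groth.Agent.Sga7.H665.Kum.exists_isPrimitiveRoot R N hNu
  have hζ1 : ζ ^ N = 1 := hζ.pow_eq_one
  have hζ1' : φ ζ ^ N = 1 := by rw [← map_pow, hζ1, map_one]
  -- the extended homomorphism
  let algQ' : Algebra R (KumX R' (φ x) N) := ((algebraMap R' (KumX R' (φ x) N)).comp φ).toAlgebra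
  let ψ : KumX R x N →ₐ[R] KumX R' (φ x) N :=
    { kumXMap φ x N with commutes' := fun a => kumXMap_algebraMap' φ x N a }
  let g' : C →ₐ[R] KumX R' (φ x) N :=
    { (incl (φ x) N).comp g with
      commutes' := fun a => by
        change incl (φ x) N (g (algebraMap R C a)) = algebraMap R' (KumX R' (φ x) N) (φ a)
        have h := RingHom.congr_fun hg a
        rw [RingHom.comp_apply, RingHom.comp_apply] at h
        rw [h, incl_algebraMap] }
  let gN : KumX R x N ⊗[R] C →ₐ[R] KumX R' (φ x) N := Algebra.TensorProduct.productMap ψ g'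
  have hesymm : ∀ q : KumX R x N, e.symm (fun _ => q) = q ⊗ₜ[R] (1 : C) := fun q => by
    rw [AlgEquiv.symm_apply_eq]
    have h := e.commutes q
    exact h.symm
  obtain ⟨i, hi⟩ := exists_eq_proj (n := n) (kumXMap φ x N)
    ((gN : KumX R x N ⊗[R] C →+* KumX R' (φ x) N).comp (e.symm : (Fin n → KumX R x N) →+* _)) (fun q => by
      change gN (e.symm (fun _ => q)) = _
      rw [hesymm]
      change Algebra.TensorProduct.productMap ψ g' _ = _
      rw [Algebra.TensorProduct.productMap_apply_tmul, map_one, mul_one]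
      rfl)
  have hi' : ∀ v, gN (e.symm v) = kumXMap φ x N (v i) := hi
  let f0 : C →+* KumX R x N :=
    ((Pi.evalRingHom (fun _ : Fin n => KumX R x N) i).comp (e : _ →+* (Fin n → KumX R x N))).comp
      (Algebra.TensorProduct.includeRight : C →ₐ[R] KumX R x N ⊗[R] C).toRingHom
  have hf0 : ∀ c, f0 c = e ((1 : KumX R x N) ⊗ₜ[R] c) i := fun c => rfl
  have hf0R : ∀ a : R, f0 (algebraMap R C a) = algebraMap R (KumX R x N) a := by
    intro a
    have h1 : (1 : KumX R x N) ⊗ₜ[R] (algebraMap R C a) = (algebraMap R (KumX R x N) a) ⊗ₜ[R] (1 : C) := by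
      rw [Algebra.algebraMap_eq_smul_one (A := C) a, Algebra.algebraMap_eq_smul_one (A := KumX R x N) a,
        TensorProduct.tmul_smul, TensorProduct.smul_tmul']
    rw [hf0, h1, ← hesymm, AlgEquiv.apply_symm_apply]
  have hψf0 : ∀ c, kumXMap φ x N (f0 c) = incl (φ x) N (g c) := by
    intro c
    rw [hf0, ← hi', AlgEquiv.symm_apply_apply]
    change Algebra.TensorProduct.productMap ψ g' _ = _
    rw [Algebra.TensorProduct.productMap_apply_tmul, map_one, one_mul]
    rfl
  -- invariance under the twist
  have hinv : ∀ c, twistX x N ζ hζ1 (f0 c) = f0 c := by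
    let s0 : C →ₐ[R] KumX R x N :=
      { (twistX x N ζ hζ1).comp f0 with
        commutes' := fun a => by
          change twistX x N ζ hζ1 (f0 (algebraMap R C a)) = _
          rw [hf0R, twistX_algebraMap'] }
    let sN : KumX R x N ⊗[R] C →ₐ[R] KumX R x N := Algebra.TensorProduct.productMap (AlgHom.id R _) s0
    obtain ⟨j, hj⟩ := exists_eq_proj (n := n) (RingHom.id (KumX R x N))
      ((sN : KumX R x N ⊗[R] C →+* KumX R x N).comp (e.symm : (Fin n → KumX R x N) →+* _)) (fun q => by
        change sN (e.symm (fun _ => q)) = _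
        rw [hesymm]
        change Algebra.TensorProduct.productMap _ s0 _ = _
        rw [Algebra.TensorProduct.productMap_apply_tmul, map_one, mul_one]
        rfl)
    have hj' : ∀ v, sN (e.symm v) = v j := hj
    have hs : ∀ c, twistX x N ζ hζ1 (f0 c) = e ((1 : KumX R x N) ⊗ₜ[R] c) j := by
      intro c
      rw [← hj' (e ((1 : KumX R x N) ⊗ₜ[R] c)), AlgEquiv.symm_apply_apply]
      change _ = Algebra.TensorProduct.productMap _ s0 _
      rw [Algebra.TensorProduct.productMap_apply_tmul, map_one, one_mul]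
      rfl
    have h1 : ∀ c, kumXMap φ x N (e ((1 : KumX R x N) ⊗ₜ[R] c) j) =
        kumXMap φ x N (e ((1 : KumX R x N) ⊗ₜ[R] c) i) := by
      intro c
      rw [← hs, kumXMap_twistX φ x N ζ hζ1 hζ1', hψf0, twistX_incl (φ x), ← hψf0, hf0]
    have h2 : ∀ z : KumX R x N ⊗[R] C, kumXMap φ x N (e z j) = kumXMap φ x N (e z i) := by
      intro z
      induction z using TensorProduct.induction_on with
      | zero => simp
      | add a b ha hb => rw [map_add, Pi.add_apply, Pi.add_apply, map_add, map_add, ha, hb]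
      | tmul q c =>
        have h3 : q ⊗ₜ[R] c = q • ((1 : KumX R x N) ⊗ₜ[R] c) := by
          rw [TensorProduct.smul_tmul', smul_eq_mul, mul_one]
        rw [h3, map_smul, Pi.smul_apply, Pi.smul_apply, smul_eq_mul, smul_eq_mul, map_mul, map_mul, h1]
    have hij : j = i := by
      by_contra hne
      have h4 := h2 (e.symm (Pi.single i 1))
      rw [AlgEquiv.apply_symm_apply, Pi.single_eq_same, Pi.single_eq_of_ne hne, map_zero, map_one] at h4
      exact zero_ne_one h4
    intro c
    rw [hs, hij, hf0]
  -- values in `R[1/x]`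
  have hmem : ∀ c, f0 c ∈ (incl x N).range := fun c => mem_range_incl x hx0 N hNu ζ hζ (f0 c) (hinv c)
  let er : Localization.Away x ≃+* (incl x N).range := RingEquiv.ofBijective (incl x N).rangeRestrict
    ⟨fun a b h => hτ (congrArg Subtype.val h), (incl x N).rangeRestrict_surjective⟩
  let f : C →+* Localization.Away x := (er.symm : (incl x N).range →+* Localization.Away x).comp
    (f0.codRestrict (incl x N).range hmem)
  have hf : ∀ c, incl x N (f c) = f0 c := by
    intro c
    have h := er.apply_symm_apply (f0.codRestrict (incl x N).range hmem c)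
    exact congrArg Subtype.val h
  refine ⟨f, ?_, ?_⟩
  · refine IsLocalization.ringHom_ext (Submonoid.powers x) (RingHom.ext fun a => ?_)
    simp only [RingHom.comp_apply, RingHom.id_apply]
    apply hτ
    rw [hf, ← IsScalarTower.algebraMap_apply R (Localization.Away x) C, hf0R, incl_algebraMap]
  · intro β hβ
    have h1 : (incl (φ x) N).comp β = (kumXMap φ x N).comp (incl x N) := by
      refine IsLocalization.ringHom_ext (Submonoid.powers x) (RingHom.ext fun a => ?_)
      have h2 := RingHom.congr_fun hβ a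
      simp only [RingHom.comp_apply] at h2 ⊢
      rw [h2, incl_algebraMap, incl_algebraMap, kumXMap_algebraMap']
    refine RingHom.ext fun c => ?_
    apply hτ'
    rw [RingHom.comp_apply]
    have h3 : incl (φ x) N (β (f c)) = kumXMap φ x N (incl x N (f c)) := RingHom.congr_fun h1 (f c)
    rw [h3, hf, hψf0]

end Main

end Groth.Agent.Neron.K446.AbhSec
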