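import Groth.Agent.Neron.K446.Trans
import Groth.Agent.S0537
import Groth.Agent.S0539

/-!
# Strictly henselian local rings at points of smooth schemes

For `Y → Spec A'` smooth, `A'` étale over the regular ring `A`, and a point `y` of `Y` over the divisor
`x = 0`, the strict henselization of the local ring at `y` is a test ring for the local theory.
-/

set_option autoImplicit false
universe u

open IsLocalRing CategoryTheory CategoryTheory.Limits AlgebraicGeometry

namespace Groth.Agent.Neron.K446.Local

variable {A : Type u} [CommRing A] {x : A} {A' : Type u} [CommRing A'] [Algebra A A']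

theorem exists_strict_point (hA : RegPair A x) [Algebra.Etale A A'] {Y : Scheme.{u}}
    (p : Y ⟶ Spec (CommRingCat.of A')) [Smooth p] (y : Y)
    (hy : algebraMap A A' x ∈ (show PrimeSpectrum A' from p y).asIdeal) :
    ∃ (R : Type u) (_ : CommRing R) (_ : Algebra A' R) (_ : Algebra A R) (_ : IsScalarTower A A' R)
      (_ : Module.Flat A' R) (_ : IsRegularLocalRing R) (_ : HenselianLocalRing R)
      (_ : IsSepClosed (ResidueField R)) (r : Spec (CommRingCat.of R) ⟶ Y),
      Par x R ∧ Flat r ∧ r (closedPoint R) = y ∧ r ≫ p = st A' R := by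
  obtain ⟨_, ⟨V, hV, rfl⟩, hyV, -⟩ :=
    Y.isBasis_affineOpens.exists_subset_of_mem_open (Set.mem_univ y) isOpen_univ
  let B : CommRingCat.{u} := Γ(Y, V)
  let s : Spec B ⟶ Spec (CommRingCat.of A') := hV.fromSpec ≫ p
  let ψ : CommRingCat.of A' ⟶ B := Spec.preimage s
  have hψ : Spec.map ψ = s := Spec.map_preimage s
  let algB' : Algebra A' B := ψ.hom.toAlgebra
  have hst : st A' B = s := hψ
  have hsm : Algebra.Smooth A' B := by
    have h2 : Smooth (Spec.map ψ) := by
      rw [hψ]
      infer_instance
    have h3 := (HasRingHomProperty.Spec_iff (P := @Smooth)).mp h2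
    exact (RingHom.smooth_algebraMap (R := A') (S := B)).1 h3
  let algB : Algebra A B := ((algebraMap A' B).comp (algebraMap A A')).toAlgebra
  have htB : IsScalarTower A A' B := IsScalarTower.of_algebraMap_eq fun _ => rfl
  have hsmA : Algebra.Smooth A B := Algebra.Smooth.comp A A' B
  have hB := hA.of_smooth B
  let pt : PrimeSpectrum B := hV.primeIdealOf ⟨y, hyV⟩
  have hpt : hV.fromSpec pt = y := hV.fromSpec_primeIdealOf ⟨y, hyV⟩
  let q : Ideal B := pt.asIdeal
  have hxq : algebraMap A B x ∈ q := by
    have h1 : st A' B pt = p y := by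
      rw [hst, Scheme.Hom.comp_apply, hpt]
    have h2 : algebraMap A A' x ∈ (show PrimeSpectrum A' from st A' B pt).asIdeal := by
      rw [h1]
      exact hy
    exact h2
  obtain ⟨R, _, _, algR, hloc, hR⟩ := Groth.Agent.S0537.result (Localization.AtPrime q)
  let algBR : Algebra B R := ((algebraMap (Localization.AtPrime q) R).comp
    (algebraMap B (Localization.AtPrime q))).toAlgebra
  have htR : IsScalarTower B (Localization.AtPrime q) R := IsScalarTower.of_algebraMap_eq fun _ => rfl
  obtain ⟨h1, h2, h3, h4, h5⟩ := hB.par q hxq R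
  have hff := Groth.Agent.S0539.result (Localization.AtPrime q) R
  have hflB : Module.Flat B R := Module.Flat.trans B (Localization.AtPrime q) R
  let algA'R : Algebra A' R := ((algebraMap B R).comp (algebraMap A' B)).toAlgebra
  have htA'R : IsScalarTower A' B R := IsScalarTower.of_algebraMap_eq fun _ => rfl
  have hflB' : Module.Flat A' B := by
    have := (hA.of_smooth A').reg
    exact Algebra.Smooth.flat_of_isNoetherianRing A' B
  have hflA' : Module.Flat A' R := Module.Flat.trans A' B R
  let algAR : Algebra A R := ((algebraMap A' R).comp (algebraMap A A')).toAlgebra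
  have htAR : IsScalarTower A A' R := IsScalarTower.of_algebraMap_eq fun _ => rfl
  let r : Spec (CommRingCat.of R) ⟶ Y := Spec.map (CommRingCat.ofHom (algebraMap B R)) ≫ hV.fromSpec
  refine ⟨R, inferInstance, algA'R, algAR, htAR, hflA', h1, h2, h3, r, ⟨h4, h5⟩, ?_, ?_, ?_⟩
  · have h6 : Flat (Spec.map (CommRingCat.ofHom (algebraMap B R))) := by
      rw [HasRingHomProperty.Spec_iff (P := @Flat)]
      exact hflB
    change Flat (Spec.map (CommRingCat.ofHom (algebraMap B R)) ≫ hV.fromSpec)
    infer_instance
  · rw [Scheme.Hom.comp_apply, ← hpt]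
    congr 1
    apply PrimeSpectrum.ext
    change (maximalIdeal R).comap (algebraMap B R) = q
    have h7 : (maximalIdeal R).comap (algebraMap (Localization.AtPrime q) R) =
        maximalIdeal (Localization.AtPrime q) :=
      congrArg PrimeSpectrum.asIdeal (IsLocalRing.comap_closedPoint (algebraMap (Localization.AtPrime q) R))
    rw [IsScalarTower.algebraMap_eq B (Localization.AtPrime q) R, ← Ideal.comap_comap, h7]
    exact Localization.AtPrime.comap_maximalIdeal
  · rw [Category.assoc]
    change _ ≫ s = _
    rw [← hψ, ← Spec.map_comp]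
    rfl

end Groth.Agent.Neron.K446.Local
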