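import Groth.Agent.Neron.K446.Model
import Groth.Agent.Neron.K446.StrictPt
import Groth.Agent.S9495

/-!
# Torsion sections which do not extend anywhere are closed
-/

set_option autoImplicit false
universe u

open IsLocalRing CategoryTheory CategoryTheory.Limits AlgebraicGeometry MonObj
open MonoidalCategory CartesianMonoidalCategory

namespace Groth.Agent.Neron.K446.Local

open Groth.Agent.Sga67.TorsionLift (sp spMap spMap_comp)

variable {A : Type u} [CommRing A] {x : A} (G : Over (Spec (CommRingCat.of A))) [GrpObj G]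
  {A' : Type u} [CommRing A'] [Algebra A A']

/-- The unit section. -/
noncomputable abbrev unitSec : Spec (CommRingCat.of A) ⟶ G.left := (1 : sp A A ⟶ G).left

theorem unitSec_hom : unitSec G ≫ G.hom = 𝟙 _ := (Over.w (1 : sp A A ⟶ G)).trans (sp_self_hom A)

theorem one_left (T : Over (Spec (CommRingCat.of A))) : (1 : T ⟶ G).left = T.hom ≫ unitSec G := by
  let f : T ⟶ sp A A := Over.homMk T.hom (by rw [sp_self_hom]; exact Category.comp_id _)
  have h : f ≫ (1 : sp A A ⟶ G) = 1 := MonObj.comp_one _
  rw [← h]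
  rfl

theorem pow_left {T : Over (Spec (CommRingCat.of A))} (z : T ⟶ G) (n : ℕ) :
    (z ^ n).left = z.left ≫ (𝟙 G ^ n).left := by
  rw [← Over.comp_left, MonObj.comp_pow, Category.comp_id]

/-- The torsion subscheme. -/
noncomputable abbrev Tor (m : ℕ) : Scheme.{u} := pullback (𝟙 G ^ m).left (unitSec G)

theorem tor_hom (m : ℕ) : pullback.fst (𝟙 G ^ m).left (unitSec G) ≫ G.hom =
    pullback.snd (𝟙 G ^ m).left (unitSec G) := by
  have h1 : (𝟙 G ^ m).left ≫ G.hom = G.hom := Over.w _
  rw [← h1, ← Category.assoc, pullback.condition, Category.assoc, unitSec_hom, Category.comp_id]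

variable (A') in
/-- The torsion subscheme over `A'`. -/
noncomputable abbrev Tor' (m : ℕ) : Scheme.{u} := pullback (pullback.snd (𝟙 G ^ m).left (unitSec G)) (st A A')

variable (A') in
/-- The inclusion of the torsion subscheme. -/
noncomputable def torι (m : ℕ) : Tor' G A' m ⟶ pullback G.hom (st A A') :=
  pullback.lift (pullback.fst _ _ ≫ pullback.fst _ _) (pullback.snd _ _) (by
    rw [Category.assoc, tor_hom, pullback.condition])

theorem torι_fst (m : ℕ) : torι G A' m ≫ pullback.fst _ _ = pullback.fst _ _ ≫ pullback.fst _ _ :=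
  pullback.lift_fst _ _ _

theorem torι_snd (m : ℕ) : torι G A' m ≫ pullback.snd _ _ = pullback.snd _ _ := pullback.lift_snd _ _ _

instance isClosedImmersion_torι [IsSeparated G.hom] (m : ℕ) : IsClosedImmersion (torι G A' m) := by
  have h1 : IsClosedImmersion (unitSec G) := by
    have : IsClosedImmersion (unitSec G ≫ G.hom) := by rw [unitSec_hom]; infer_instance
    exact IsClosedImmersion.of_comp (unitSec G) G.hom
  have h2 : IsClosedImmersion (pullback.fst (𝟙 G ^ m).left (unitSec G)) := inferInstance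
  have h3 : IsPullback (pullback.fst (pullback.snd (𝟙 G ^ m).left (unitSec G)) (st A A')) (torι G A' m)
      (pullback.fst (𝟙 G ^ m).left (unitSec G)) (pullback.fst G.hom (st A A')) := by
    refine IsPullback.of_bot (v₂₁ := pullback.snd G.hom (st A A')) (v₂₂ := G.hom) (h₃₁ := st A A') ?_
      (torι_fst G m).symm (IsPullback.of_hasPullback _ _)
    rw [torι_snd, tor_hom]
    exact IsPullback.of_hasPullback _ _
  exact MorphismProperty.of_isPullback (P := @IsClosedImmersion) h3 h2

/-- A torsion point as a point of the torsion subscheme. -/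
noncomputable def torPt (b : Yx x A' ⟶ G) (m : ℕ) (hb : b ^ m = 1) : Spec (CommRingCat.of (Rx x A')) ⟶ Tor' G A' m :=
  pullback.lift (pullback.lift b.left (st A (Rx x A')) (by
    rw [← pow_left, hb, one_left]; rfl)) (st A' (Rx x A')) (by rw [pullback.lift_snd, st_comp])

theorem torPt_torι (b : Yx x A' ⟶ G) (m : ℕ) (hb : b ^ m = 1) : torPt G b m hb ≫ torι G A' m = sec G b := by
  apply pullback.hom_ext
  · rw [Category.assoc, torι_fst, sec_fst, torPt, pullback.lift_fst_assoc, pullback.lift_fst]
  · rw [Category.assoc, torι_snd, sec_snd, torPt, pullback.lift_snd]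

theorem torPt_snd (b : Yx x A' ⟶ G) (m : ℕ) (hb : b ^ m = 1) : torPt G b m hb ≫ pullback.snd _ _ = st A' (Rx x A') :=
  pullback.lift_snd _ _ _

theorem mem_range_st_iff (s : Spec (CommRingCat.of A')) : s ∈ Set.range (st A' (Rx x A')) ↔
    algebraMap A A' x ∉ (show PrimeSpectrum A' from s).asIdeal := by
  have h := PrimeSpectrum.localization_away_comap_range (Rx x A') (algebraMap A A' x)
  change s ∈ Set.range (PrimeSpectrum.comap (algebraMap A' (Rx x A'))) ↔ _
  rw [h]
  rfl

section

variable {G}

/-- Over the complement of the divisor sections are closed. -/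
theorem mem_range_of_specializes {K : Scheme.{u}} (p : K ⟶ Spec (CommRingCat.of A')) [IsSeparated p]
    (s : Spec (CommRingCat.of (Rx x A')) ⟶ K) (hs : s ≫ p = st A' (Rx x A')) (t) (z : K) (h : s t ⤳ z)
    (hz : p z ∈ Set.range (st A' (Rx x A'))) : z ∈ Set.range s := by
  let σ : Spec (CommRingCat.of (Rx x A')) ⟶ pullback p (st A' (Rx x A')) :=
    pullback.lift s (𝟙 _) (by rw [hs, Category.id_comp])
  have hσ1 : σ ≫ pullback.fst _ _ = s := pullback.lift_fst _ _ _
  have hσ2 : σ ≫ pullback.snd _ _ = 𝟙 _ := pullback.lift_snd _ _ _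
  have hcl : IsClosedImmersion σ := by
    have : IsClosedImmersion (σ ≫ pullback.snd p (st A' (Rx x A'))) := by rw [hσ2]; infer_instance
    exact IsClosedImmersion.of_comp σ (pullback.snd p (st A' (Rx x A')))
  have h1 : z ∈ Set.range (pullback.fst p (st A' (Rx x A'))) := by
    rw [Scheme.Pullback.range_fst]
    exact hz
  obtain ⟨z₁, rfl⟩ := h1
  have h2 : σ t ⤳ z₁ := by
    rw [← (pullback.fst p (st A' (Rx x A'))).isOpenEmbedding.isInducing.specializes_iff, ← Scheme.Hom.comp_apply, hσ1]
    exact h
  have h3 : z₁ ∈ Set.range σ := σ.isClosedEmbedding.isClosed_range.stableUnderSpecialization h2 ⟨t, rfl⟩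
  obtain ⟨t', rfl⟩ := h3
  exact ⟨t', by rw [← Scheme.Hom.comp_apply, hσ1]⟩

/-- Torsion sections extend near their limit points. -/
theorem mem_ext_of_specializes [IsCommMonObj G] [Smooth G.hom] [IsSeparated G.hom] (hG : SA x G)
    [Algebra.Etale A A'] (b : Yx x A' ⟶ G) (m : ℕ) (hm : 0 < m) (hb : b ^ m = 1) (t) (z : Tor' G A' m)
    (hz : torPt G b m hb t ⤳ z) (R : Type u) [CommRing R] [Algebra A' R] [Algebra A R] [IsScalarTower A A' R]
    [IsRegularLocalRing R] (hR : Par x R) (r : Spec (CommRingCat.of R) ⟶ Tor' G A' m) [Flat r]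
    (hr : r (closedPoint R) = z) (hrp : r ≫ pullback.snd _ _ = st A' R) : res x G A' R b ∈ ext x G R := by
  have hdom : IsDomain R := Groth.Agent.CalgA.RegBasic.isDomain R
  let p' : Tor' G A' m ⟶ Spec (CommRingCat.of A') := pullback.snd _ _
  have het0 : Etale (𝟙 G ^ m).left := hG.etale_pow m hm
  have het1 : Etale p' := inferInstanceAs (Etale (pullback.snd _ _))
  let b' := torPt G b m hb
  have hb'p : b' ≫ p' = st A' (Rx x A') := torPt_snd G b m hb
  have hetb : Etale b' := by
    have : Etale (b' ≫ p') := by rw [hb'p]; infer_instance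
    exact Etale.of_comp b' p'
  -- the point `t₀` of `Spec R` over `b' t`
  have hgen : b' t ⤳ r (closedPoint R) := by rw [hr]; exact hz
  obtain ⟨t₀, -, ht₀⟩ := Flat.generalizingMap r hgen
  have h1 : t₀ ∈ Set.range (st R (Rx x R)) := by
    have h2 : st A' R t₀ = st A' (Rx x A') t := by
      rw [← hrp, Scheme.Hom.comp_apply, ht₀, ← hb'p, Scheme.Hom.comp_apply]
    have h3 : st A' R t₀ ∈ Set.range (st A' (Rx x A')) := ⟨t, h2.symm⟩
    rw [mem_range_st_iff] at h3
    rw [mem_range_st_iff (A' := R)]
    intro h4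
    apply h3
    change algebraMap A A' x ∈ ((show PrimeSpectrum R from t₀).asIdeal).comap (algebraMap A' R)
    rw [Ideal.mem_comap, ← IsScalarTower.algebraMap_apply A A' R]
    exact h4
  obtain ⟨t₁, ht₁⟩ := h1
  let rx' : Spec (CommRingCat.of (Rx x R)) ⟶ Tor' G A' m := st R (Rx x R) ≫ r
  have hrx' : b' t = rx' t₁ := by
    rw [Scheme.Hom.comp_apply, ht₁, ht₀]
  obtain ⟨T₀, -, -⟩ := Scheme.Pullback.exists_preimage_pullback t t₁ hrx'
  have hx0 : algebraMap A R x ≠ 0 := by
    intro h
    exact hR.notMem (h ▸ Ideal.zero_mem _)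
  have hdomx : IsDomain (Rx x R) := IsLocalization.isDomain_localization
    (powers_le_nonZeroDivisors_of_noZeroDivisors hx0)
  have hirr : IrreducibleSpace (Spec (CommRingCat.of (Rx x R))) :=
    inferInstanceAs (IrreducibleSpace (PrimeSpectrum (Rx x R)))
  have hdmn : IsDominant (pullback.snd b' rx') := by
    refine ⟨?_⟩
    have h5 : IsOpen (Set.range (pullback.snd b' rx')) := (pullback.snd b' rx').isOpenMap.isOpen_range
    exact h5.dense ⟨_, ⟨T₀, rfl⟩⟩
  let f₀ : sp A R ⟶ G := Over.homMk (r ≫ torι G A' m ≫ pullback.fst _ _) (by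
    rw [Category.assoc, Category.assoc, pullback.condition, reassoc_of% (torι_snd G (A' := A') m), reassoc_of% hrp,
      st_comp]
    rfl)
  refine ⟨f₀, ?_⟩
  change rx x R ≫ f₀ = spMap (locx x (IsScalarTower.toAlgHom A A' R)) ≫ b
  ext1
  rw [Over.comp_left, Over.comp_left]
  have hred : IsReduced (sp A (Rx x R)).left := by
    have : _root_.IsReduced (Rx x R) := inferInstance
    exact inferInstanceAs (IsReduced (Spec (CommRingCat.of (Rx x R))))
  have hdmn' : IsDominant (Y := (sp A (Rx x R)).left) (pullback.snd b' rx') := hdmn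
  refine ext_of_isDominant_of_isSeparated G.hom ?_ (pullback.snd b' rx') ?_
  · exact (Over.w (rx x R ≫ f₀)).trans (Over.w (spMap (locx x (IsScalarTower.toAlgHom A A' R)) ≫ b)).symm
  · have hloc : Spec.map (CommRingCat.ofHom (locx x (IsScalarTower.toAlgHom A A' R)).toRingHom) ≫
        st A' (Rx x A') = st R (Rx x R) ≫ st A' R := by
      rw [← Spec.map_comp, ← Spec.map_comp, ← CommRingCat.ofHom_comp, ← CommRingCat.ofHom_comp]
      congr 2
      ext a
      exact locx_algebraMap x (IsScalarTower.toAlgHom A A' R) a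
    have h6 : pullback.fst b' rx' = pullback.snd b' rx' ≫
        Spec.map (CommRingCat.ofHom (locx x (IsScalarTower.toAlgHom A A' R)).toRingHom) := by
      rw [← cancel_mono (st A' (Rx x A')), Category.assoc, hloc, ← hb'p, ← hrp, ← Category.assoc,
        pullback.condition]
      rfl
    change pullback.snd b' rx' ≫ st R (Rx x R) ≫ r ≫ torι G A' m ≫ pullback.fst _ _ =
      pullback.snd b' rx' ≫ Spec.map (CommRingCat.ofHom (locx x (IsScalarTower.toAlgHom A A' R)).toRingHom) ≫
        b.left
    rw [← reassoc_of% h6, ← sec_fst G b, ← torPt_torι G b m hb, Category.assoc]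
    have h7 := pullback.condition (f := b') (g := rx')
    rw [reassoc_of% h7]
    rfl

end

theorem isClosedImmersion_sec [IsCommMonObj G] [Smooth G.hom] [IsSeparated G.hom] (hG : SA x G)
    (hA : RegPair A x) [Algebra.Etale A A'] (b : Yx x A' ⟶ G) (m : ℕ) (hm : 0 < m) (hb : b ^ m = 1)
    (hno : ∀ (R : Type u) [CommRing R] [Algebra A' R] [Algebra A R] [IsScalarTower A A' R]
      [Module.Flat A' R] [IsRegularLocalRing R] [HenselianLocalRing R] [IsSepClosed (ResidueField R)],
      Par x R → res x G A' R b ∉ ext x G R) : IsClosedImmersion (sec G b) := by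
  have hpre : IsPreimmersion (sec G b) := by
    have h1 : IsImmersion (sec G b ≫ pullback.snd G.hom (st A A')) := by rw [sec_snd]; infer_instance
    have h2 := IsImmersion.of_comp (sec G b) (pullback.snd G.hom (st A A'))
    infer_instance
  have hNA : IsNoetherianRing A' := by
    have := (hA.of_smooth A').reg
    infer_instance
  have hN : IsNoetherianRing (Rx x A') := IsLocalization.isNoetherianRing (Submonoid.powers (algebraMap A A' x)) _ hNA
  have hqc : QuasiCompact (sec G b) := inferInstance
  refine IsClosedImmersion.of_isPreimmersion _ (Groth.Agent.S9495.isClosed_range_of_stable _ ?_)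
  rintro ζ z hζz ⟨t, rfl⟩
  have hκ : IsClosedImmersion (torι G A' m) := inferInstance
  rw [← torPt_torι G b m hb, Scheme.Hom.comp_apply] at hζz
  have hz : z ∈ Set.range (torι G A' m) :=
    (torι G A' m).isClosedEmbedding.isClosed_range.stableUnderSpecialization hζz ⟨_, rfl⟩
  obtain ⟨z', rfl⟩ := hz
  rw [(torι G A' m).isClosedEmbedding.isInducing.specializes_iff] at hζz
  by_cases hx : (pullback.snd (pullback.snd (𝟙 G ^ m).left (unitSec G)) (st A A')) z' ∈
      Set.range (st A' (Rx x A'))
  · have hsep : IsSeparated (pullback.snd (pullback.snd (𝟙 G ^ m).left (unitSec G)) (st A A')) := by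
      have h1 : IsSeparated (torι G A' m ≫ pullback.snd G.hom (st A A')) := inferInstance
      rwa [torι_snd] at h1
    obtain ⟨t', ht'⟩ := mem_range_of_specializes _ (torPt G b m hb) (torPt_snd G b m hb) t z' hζz hx
    exact ⟨t', by rw [← torPt_torι G b m hb, Scheme.Hom.comp_apply, ht']⟩
  · exfalso
    rw [mem_range_st_iff, not_not] at hx
    have het0 : Etale (𝟙 G ^ m).left := hG.etale_pow m hm
    obtain ⟨R, _, _, _, _, _, _, _, _, r, hR, hr1, hr2, hr3⟩ := exists_strict_point hA
      (pullback.snd (pullback.snd (𝟙 G ^ m).left (unitSec G)) (st A A')) z' hx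
    exact hno R hR (mem_ext_of_specializes hG b m hm hb t z' hζz R hR r hr2 hr3)

end Groth.Agent.Neron.K446.Local
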