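import Groth.Agent.Neron.K446.Transport

/-!
# Components: representatives of `G(R[1/x])` modulo `G(R)`

`A'` a domain over `A` in which `x` is prime, `V₀` the strictly henselian discrete valuation ring of `A'` along
`(x)`.  If `b i ∈ G(A'[1/x])` represent `G(V₀[1/x])` modulo `G(V₀)`, then they represent `G(R[1/x])` modulo `G(R)`
for every strictly henselian regular local flat `A'`-algebra `R` in which `x` is a member of a regular system
of parameters.
-/

set_option autoImplicit false
universe u

open IsLocalRing CategoryTheory CategoryTheory.Limits AlgebraicGeometry MonObj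
open MonoidalCategory CartesianMonoidalCategory

namespace Groth.Agent.Neron.K446.Local

open Groth.Agent.Sga67.TorsionLift (sp spMap spMap_comp)
open Groth.Agent.Sga7.H729.Dict (compHom)

/-- `x` is a member of a regular system of parameters of a discrete valuation ring with uniformizer `x`. -/
theorem par_of_max {A : Type u} [CommRing A] (x : A) (V : Type u) [CommRing V] [IsDomain V]
    [IsDiscreteValuationRing V] [Algebra A V] (hV : maximalIdeal V = Ideal.span {algebraMap A V x}) :
    Par x V where
  mem := by rw [hV]; exact Ideal.mem_span_singleton_self _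
  notMem := by
    intro h
    rw [hV, Ideal.span_singleton_pow, Ideal.mem_span_singleton] at h
    obtain ⟨y, hy⟩ := h
    have hx0 : algebraMap A V x ≠ 0 := by
      intro h0
      rw [h0, Ideal.span_singleton_eq_bot.mpr rfl] at hV
      exact IsDiscreteValuationRing.not_a_field V hV
    have h1 : algebraMap A V x * (1 - algebraMap A V x * y) = 0 := by
      rw [mul_sub, _root_.mul_one, ← _root_.mul_assoc, ← pow_two, ← hy, sub_self]
    rcases mul_eq_zero.mp h1 with h2 | h2
    · exact hx0 h2
    · have h3 : IsUnit (algebraMap A V x) := IsUnit.of_mul_eq_one y (sub_eq_zero.mp h2).symm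
      have h4 : algebraMap A V x ∈ maximalIdeal V := by rw [hV]; exact Ideal.mem_span_singleton_self _
      exact (mem_maximalIdeal _).mp h4 h3

/-- The strictly henselian discrete valuation ring along the prime `(x)`. -/
structure Along {A' : Type u} [CommRing A'] (x' : A') (V₀ : Type u) [CommRing V₀] [IsLocalRing V₀] [Algebra A' V₀] :
    Prop where
  max : maximalIdeal V₀ = Ideal.span {algebraMap A' V₀ x'}
  lift : ∀ (V : Type u) [CommRing V] [HenselianLocalRing V] [IsSepClosed (ResidueField V)] [Algebra A' V],
    (maximalIdeal V).comap (algebraMap A' V) = Ideal.span {x'} → Nonempty (V₀ →ₐ[A'] V)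

theorem charZero_residueField_of_units {A : Type u} [CommRing A] (hu : ∀ n : ℕ, 0 < n → IsUnit (n : A))
    {R : Type u} [CommRing R] [IsLocalRing R] (f : A →+* R) : CharZero (ResidueField R) := by
  refine charZero_of_inj_zero fun n hn => ?_
  by_contra h
  have h1 := (hu n (Nat.pos_of_ne_zero h)).map ((residue R).comp f)
  rw [map_natCast, hn] at h1
  exact not_isUnit_zero h1

/-- Existence of the strictly henselian discrete valuation ring along `(x)`. -/
theorem exists_along (A' : Type u) [CommRing A'] [IsDomain A'] [IsNoetherianRing A'] (x' : A') (hx0 : x' ≠ 0)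
    (hpr : (Ideal.span {x'}).IsPrime) :
    ∃ (V₀ : Type u) (_ : CommRing V₀) (_ : IsDomain V₀) (_ : IsDiscreteValuationRing V₀)
      (_ : HenselianLocalRing V₀) (_ : IsSepClosed (ResidueField V₀)) (_ : Algebra A' V₀), Along x' V₀ := by
  let O := Localization.AtPrime (Ideal.span {x'})
  obtain ⟨hO, hOm⟩ := Groth.Agent.Sga1.AbhKumDvr.isDiscreteValuationRing_localization A' x' hx0
  obtain ⟨V, _, _, _, _, hV⟩ := Groth.Agent.S0537.result O
  have h1 : IsDomain V := Groth.Agent.Sga4h.ChartDVR.isDomain_of_isStrictHenselization O V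
  have h2 : IsDiscreteValuationRing V :=
    Groth.Agent.Sga4h.ChartDVR.isDiscreteValuationRing_of_isStrictHenselization O V
  have h3 : HenselianLocalRing V := Hensel.IsStrictHenselization.henselian O
  have hsc := hV.isSepClosure
  have h4 : IsSepClosed (ResidueField V) := hsc.sep_closed
  have hmV : maximalIdeal V = Ideal.span {algebraMap O V (algebraMap A' O x')} := by
    rw [← Groth.Agent.S0538.result O V, hOm, Ideal.map_span, Set.image_singleton]
  let algV : Algebra A' V := ((algebraMap O V).comp (algebraMap A' O)).toAlgebra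
  refine ⟨V, inferInstance, h1, h2, h3, h4, algV, hmV, ?_⟩
  intro W _ _ _ _ hW
  have hunit : ∀ s : (Ideal.span {x'}).primeCompl, IsUnit (algebraMap A' W s) := by
    intro s
    by_contra h
    have h5 : (s : A') ∈ (maximalIdeal W).comap (algebraMap A' W) := (mem_maximalIdeal _).mpr h
    rw [hW] at h5
    exact s.2 h5
  let f : O →+* W := IsLocalization.lift (M := (Ideal.span {x'}).primeCompl) hunit
  have hf : ∀ a, f (algebraMap A' O a) = algebraMap A' W a := fun a => IsLocalization.lift_eq hunit a
  have hloc : IsLocalHom f := by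
    refine ⟨fun a ha => ?_⟩
    obtain ⟨b, s, rfl⟩ := IsLocalization.exists_mk'_eq (Ideal.span {x'}).primeCompl a
    rw [IsLocalization.AtPrime.isUnit_mk'_iff O (Ideal.span {x'}) b s]
    intro hb
    have h6 : f (IsLocalization.mk' O b s) * algebraMap A' W s = algebraMap A' W b := by
      have h7 := congrArg f (IsLocalization.mk'_spec O b s)
      rwa [map_mul, hf, hf] at h7
    have h8 : IsUnit (algebraMap A' W b) := h6 ▸ ha.mul (hunit s)
    have h9 : b ∈ (maximalIdeal W).comap (algebraMap A' W) := by rw [hW]; exact hb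
    exact ((mem_maximalIdeal _).mp h9) h8
  obtain ⟨g, hg, -⟩ := HensDvr.exists_lift f (V₀ := V)
  have hg' : ∀ a, g (algebraMap A' V a) = algebraMap A' W a := by
    intro a
    change g (algebraMap O V (algebraMap A' O a)) = _
    have := RingHom.congr_fun hg (algebraMap A' O a)
    rw [RingHom.comp_apply] at this
    rw [this, hf]
  exact ⟨{ g with commutes' := hg' }⟩

section Reps

variable {A : Type u} [CommRing A] (x : A) (G : Over (Spec (CommRingCat.of A))) [GrpObj G]

/-- Restriction of points over `A'[1/x]` to points over `R[1/x]`. -/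
noncomputable def res (A' R : Type u) [CommRing A'] [CommRing R] [Algebra A A'] [Algebra A R] [Algebra A' R]
    [IsScalarTower A A' R] : (sp A (Rx x A') ⟶ G) →* (sp A (Rx x R) ⟶ G) :=
  compHom (spMap (locx x (IsScalarTower.toAlgHom A A' R))) G

/-- Restriction along an algebra map. -/
noncomputable def resH {R R' : Type u} [CommRing R] [CommRing R'] [Algebra A R] [Algebra A R'] (φ : R →ₐ[A] R') :
    (sp A (Rx x R) ⟶ G) →* (sp A (Rx x R') ⟶ G) :=
  compHom (spMap (locx x φ)) G

theorem resH_res {A' R R' : Type u} [CommRing A'] [CommRing R] [CommRing R'] [Algebra A A'] [Algebra A R]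
    [Algebra A R'] [Algebra A' R] [Algebra A' R'] [IsScalarTower A A' R] [IsScalarTower A A' R']
    (φ : R →ₐ[A'] R') (b : sp A (Rx x A') ⟶ G) : resH x G (φ.restrictScalars A) (res x G A' R b) =
      res x G A' R' b := by
  change spMap (locx x (φ.restrictScalars A)) ≫ spMap (locx x (IsScalarTower.toAlgHom A A' R)) ≫ b =
    spMap (locx x (IsScalarTower.toAlgHom A A' R')) ≫ b
  rw [← Category.assoc, spMap_comp, locx_comp]
  congr 3
  ext a
  exact φ.commutes a

/-- `b` is a system of representatives of `G(V₀[1/x])` modulo `G(V₀)`. -/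
structure Reps {A' : Type u} [CommRing A'] [Algebra A A'] (V₀ : Type u) [CommRing V₀] [Algebra A V₀] [Algebra A' V₀]
    [IsScalarTower A A' V₀] {I : Type u} (b : I → (sp A (Rx x A') ⟶ G)) : Prop where
  ex : ∀ c : sp A (Rx x V₀) ⟶ G, ∃ i, c * (res x G A' V₀ (b i))⁻¹ ∈ ext x G V₀
  uniq : ∀ i j, res x G A' V₀ (b i) * (res x G A' V₀ (b j))⁻¹ ∈ ext x G V₀ → i = j

variable {x G}

/-- The main local statement: the representatives over `V₀` are representatives over every `R`. -/
theorem SA.reps_local [IsCommMonObj G] [Smooth G.hom] [IsSeparated G.hom] [QuasiCompact G.hom]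
    (hE : DivExt.{u}) (hP : PowExt.{u}) (hG : SA x G) {A' : Type u} [CommRing A'] [Algebra A A']
    (hpr : (Ideal.span {algebraMap A A' x}).IsPrime)
    (V₀ : Type u) [CommRing V₀] [IsDomain V₀] [IsDiscreteValuationRing V₀]
    [HenselianLocalRing V₀] [IsSepClosed (ResidueField V₀)] [Algebra A' V₀] [Algebra A V₀]
    [IsScalarTower A A' V₀] (hV₀ : Along (algebraMap A A' x) V₀) {I : Type u} (b : I → (sp A (Rx x A') ⟶ G))
    (hb : Reps x G V₀ b) (R : Type u) [CommRing R] [Algebra A' R] [Algebra A R] [IsScalarTower A A' R]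
    [Module.Flat A' R] [IsRegularLocalRing R] [HenselianLocalRing R] [IsSepClosed (ResidueField R)]
    (hR : Par x R) : Reps x G R b := by
  have hcR : CharZero (ResidueField R) := charZero_residueField_of_units hG.units (algebraMap A R)
  have hcV₀ : CharZero (ResidueField V₀) := charZero_residueField_of_units hG.units (algebraMap A V₀)
  obtain ⟨V, _, _, _, _, _, φ, hφ, hmV, hcomap⟩ :=
    HensDvr.exists_strict_dvr R (algebraMap A R x) hR.mem hR.notMem
  let algV : Algebra A V := (φ.comp (algebraMap A R)).toAlgebra
  let algV' : Algebra A' V := (φ.comp (algebraMap A' R)).toAlgebra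
  have htow : IsScalarTower A A' V := IsScalarTower.of_algebraMap_eq fun a => by
    change φ (algebraMap A R a) = φ (algebraMap A' R (algebraMap A A' a))
    rw [← IsScalarTower.algebraMap_apply A A' R]
  let φ' : R →ₐ[A'] V := { φ with commutes' := fun _ => rfl }
  have hmV' : maximalIdeal V = Ideal.span {algebraMap A V x} := hmV
  have hcV : CharZero (ResidueField V) := charZero_residueField_of_units hG.units (algebraMap A V)
  have hVpar : Par x V := par_of_max x V hmV'
  have hV₀max : maximalIdeal V₀ = Ideal.span {algebraMap A V₀ x} := by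
    rw [hV₀.max, ← IsScalarTower.algebraMap_apply A A' V₀]
  have hV₀par : Par x V₀ := par_of_max x V₀ hV₀max
  have hc1 : (maximalIdeal V).comap (algebraMap A' V) = Ideal.span {algebraMap A A' x} := by
    have h1 : (maximalIdeal V).comap (algebraMap A' V) =
        ((maximalIdeal V).comap φ).comap (algebraMap A' R) := (Ideal.comap_comap _ _).symm
    rw [h1, hcomap]
    have h2 : algebraMap A R x = algebraMap A' R (algebraMap A A' x) := IsScalarTower.algebraMap_apply A A' R x
    rw [h2]
    refine HensDvr.comap_span (algebraMap A' R) ?_ _ hpr ?_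
    · exact (RingHom.flat_algebraMap_iff).mpr inferInstance
    · rw [← h2]
      exact hR.mem
  obtain ⟨g⟩ := hV₀.lift V hc1
  obtain ⟨m, hm, hdec⟩ := hG.exists_decomp hP V hmV'
  constructor
  · intro c
    obtain ⟨ε, hε, δ, hδ, hc⟩ := hdec (resH x G (φ'.restrictScalars A) c)
    obtain ⟨ε₀, -, hε₀'⟩ := hG.exists_torsion_descend (g.restrictScalars A) hV₀par hVpar m hm ε hε
    obtain ⟨i, hi⟩ := hb.ex ε₀
    refine ⟨i, hG.mem_ext_of_map hE (φ'.restrictScalars A) hR hVpar _ ?_⟩
    change resH x G (φ'.restrictScalars A) _ ∈ ext x G V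
    have h1 : resH x G (g.restrictScalars A) (ε₀ * (res x G A' V₀ (b i))⁻¹) ∈ ext x G V :=
      map_mem_ext (g.restrictScalars A) hi
    have h2 : resH x G (g.restrictScalars A) ε₀ = ε := hε₀'
    rw [map_mul, map_inv, resH_res, h2] at h1
    rw [map_mul, map_inv, resH_res, hc]
    have h3 : ε * δ * (res x G A' V (b i))⁻¹ = δ * (ε * (res x G A' V (b i))⁻¹) := by
      rw [_root_.mul_comm ε δ, _root_.mul_assoc]
    rw [h3]
    exact (ext x G V).mul_mem hδ h1
  · intro i j hij
    apply hb.uniq
    refine hG.mem_ext_of_map hE (g.restrictScalars A) hV₀par hVpar _ ?_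
    change resH x G (g.restrictScalars A) _ ∈ ext x G V
    have h1 : resH x G (φ'.restrictScalars A) (res x G A' R (b i) * (res x G A' R (b j))⁻¹) ∈ ext x G V :=
      map_mem_ext (φ'.restrictScalars A) hij
    rw [map_mul, map_inv, resH_res, resH_res] at h1 ⊢
    exact h1

end Reps

end Groth.Agent.Neron.K446.Local
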