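import Groth.Agent.Neron.K446.KumSplit
import Groth.Agent.Sga4h.ChartDVR
import Groth.Agent.S0537
import Mathlib.RingTheory.Flat.FaithfullyFlat.Algebra
import Mathlib.RingTheory.Flat.Localization
import Mathlib.RingTheory.Localization.AtPrime.Basic
import Mathlib.FieldTheory.SeparableClosure

/-!
# Strictly henselian discrete valuation rings along a divisor

* `exists_lift`: maps from a strict henselization to a strictly henselian local ring.
* `exists_strict_dvr`: for `R` regular local and `x` a member of a regular system of parameters there is a
  strictly henselian discrete valuation ring over `R` with uniformizer `x` centred at the prime `(x)`.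
* `comap_span`: contraction of the ideal generated by `x` along a flat map to a local ring.
-/

set_option autoImplicit false
universe u

open IsLocalRing

namespace Groth.Agent.Neron.K446.HensDvr

/-- Maps from a strict henselization to a strictly henselian local ring. -/
theorem exists_lift {O V₀ V : Type u} [CommRing O] [IsLocalRing O] [CommRing V₀] [IsLocalRing V₀] [Algebra O V₀]
    [IsLocalHom (algebraMap O V₀)] [hS : Hensel.IsStrictHenselization O V₀] [CommRing V] [HenselianLocalRing V]
    [IsSepClosed (ResidueField V)] (f : O →+* V) [IsLocalHom f] :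
    ∃ g : V₀ →+* V, g.comp (algebraMap O V₀) = f ∧ IsLocalHom g := by
  have hsep := hS.isSepClosure
  let alg : Algebra (ResidueField O) (ResidueField V) := (ResidueField.map f).toAlgebra
  have : Algebra.IsSeparable (ResidueField O) (ResidueField V₀) := hsep.separable
  let τ : ResidueField V₀ →ₐ[ResidueField O] ResidueField V := IsSepClosed.lift
  obtain ⟨g, ⟨hg1, hg2⟩, -⟩ := hS.universal V f (τ : ResidueField V₀ →+* ResidueField V) (by
    refine RingHom.ext fun a => ?_
    exact τ.commutes a)
  refine ⟨g, hg1, ⟨fun a ha => ?_⟩⟩
  by_contra hna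
  have h1 : residue V₀ a = 0 := (residue_eq_zero_iff _).mpr ((mem_maximalIdeal _).mpr hna)
  have h2 := hg2 a
  rw [h1, map_zero, residue_eq_zero_iff] at h2
  exact ((mem_maximalIdeal _).mp h2) ha

/-- A nonzero divisor-free criterion: a ring map from a discrete valuation ring to a ring which does not kill a
uniformizer power is injective. -/
theorem injective_of_local {V₀ V : Type u} [CommRing V₀] [IsDomain V₀] [IsDiscreteValuationRing V₀] [CommRing V]
    [IsDomain V] (g : V₀ →+* V) (x : V₀) (hx : g x ≠ 0) (hx' : x ∈ maximalIdeal V₀) : Function.Injective g := by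
  rw [injective_iff_map_eq_zero]
  intro a ha
  by_contra ha0
  have hx0 : x ≠ 0 := by rintro rfl; exact hx (map_zero g)
  -- `x ^ n ∈ (a)` for some `n`
  obtain ⟨p, hp⟩ := IsDiscreteValuationRing.exists_irreducible V₀
  obtain ⟨n, hn⟩ := IsDiscreteValuationRing.associated_pow_irreducible ha0 hp
  have hpx : p ∣ x := by
    rw [hp.maximalIdeal_eq, Ideal.mem_span_singleton] at hx'
    exact hx'
  have h1 : a ∣ x ^ n := hn.dvd.trans (pow_dvd_pow_of_dvd hpx n)
  have h2 : g a ∣ g (x ^ n) := map_dvd g h1
  rw [ha, zero_dvd_iff, map_pow] at h2
  exact pow_ne_zero n hx h2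

/-- Characteristic zero residue field passes along arbitrary maps of local rings out of a local ring with residue
characteristic zero. -/
theorem charZero_residueField {R V : Type u} [CommRing R] [IsLocalRing R] [CharZero (ResidueField R)] [CommRing V]
    [IsLocalRing V] (f : R →+* V) : CharZero (ResidueField V) :=
  Pi1.H382.Tame0.charZero_of_residue R ((residue V).comp f)

/-- For `R` regular local and `x` a member of a regular system of parameters: a strictly henselian discrete
valuation ring over `R` with uniformizer `x`, centred at `(x)`. -/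
theorem exists_strict_dvr (R : Type u) [CommRing R] [IsRegularLocalRing R] (x : R) (hx : x ∈ maximalIdeal R)
    (hx2 : x ∉ maximalIdeal R ^ 2) :
    ∃ (V : Type u) (_ : CommRing V) (_ : IsDomain V) (_ : IsDiscreteValuationRing V) (_ : HenselianLocalRing V)
      (_ : IsSepClosed (ResidueField V)) (φ : R →+* V), Function.Injective φ ∧
      maximalIdeal V = Ideal.span {φ x} ∧ (maximalIdeal V).comap φ = Ideal.span {x} := by
  have hdom : IsDomain R := Groth.Agent.CalgA.RegBasic.isDomain R
  have hpr : (Ideal.span {x}).IsPrime := _root_.K550.RegPairs.isPrime_span_of_notMem_sq hx hx2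
  have hx0 : x ≠ 0 := by rintro rfl; exact hx2 (Ideal.zero_mem _)
  let O := Localization.AtPrime (Ideal.span {x})
  obtain ⟨hO, hOm⟩ := Groth.Agent.Sga1.AbhKumDvr.isDiscreteValuationRing_localization R x hx0
  have hOd : IsDomain O := inferInstance
  obtain ⟨V, _, _, _, _, hV⟩ := Groth.Agent.S0537.result O
  have h1 : IsDomain V := Groth.Agent.Sga4h.ChartDVR.isDomain_of_isStrictHenselization O V
  have h2 : IsDiscreteValuationRing V :=
    Groth.Agent.Sga4h.ChartDVR.isDiscreteValuationRing_of_isStrictHenselization O V
  have h3 : HenselianLocalRing V := Hensel.IsStrictHenselization.henselian O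
  have hsc := hV.isSepClosure
  have h4 : IsSepClosed (ResidueField V) := hsc.sep_closed
  have hmV : maximalIdeal V = Ideal.span {algebraMap O V (algebraMap R O x)} := by
    rw [← Groth.Agent.S0538.result O V, hOm, Ideal.map_span, Set.image_singleton]
  have hff : Module.FaithfullyFlat O V := Groth.Agent.S0539.result O V
  refine ⟨V, inferInstance, h1, h2, h3, h4, (algebraMap O V).comp (algebraMap R O), ?_, hmV, ?_⟩
  · have hinj : Function.Injective (algebraMap R O) :=
      IsLocalization.injective O (Ideal.primeCompl_le_nonZeroDivisors (Ideal.span {x}))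
    exact (FaithfulSMul.algebraMap_injective O V).comp hinj
  · rw [← Ideal.comap_comap]
    have h5 : (maximalIdeal V).comap (algebraMap O V) = maximalIdeal O :=
      ((local_hom_TFAE (algebraMap O V)).out 0 4).mp (inferInstance : IsLocalHom (algebraMap O V))
    rw [h5]
    exact IsLocalization.AtPrime.under_maximalIdeal O (Ideal.span {x})

/-- Contraction of a principal ideal along a flat map to a local ring. -/
theorem comap_span {A R : Type u} [CommRing A] [CommRing R] [IsLocalRing R] (f : A →+* R) (hf : f.Flat) (x : A)
    (hpr : (Ideal.span {x}).IsPrime) (hx : f x ∈ maximalIdeal R) :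
    (Ideal.span {f x}).comap f = Ideal.span {x} := by
  let alg : Algebra A R := f.toAlgebra
  have hflat : Module.Flat A R := hf
  let p : Ideal A := (maximalIdeal R).comap f
  have hp : p.IsPrime := Ideal.IsPrime.comap f
  let O := Localization.AtPrime p
  have hunit : ∀ s : p.primeCompl, IsUnit (f s) := by
    intro s
    by_contra h
    exact s.2 ((mem_maximalIdeal _).mpr h)
  let g : O →+* R := IsLocalization.lift (M := p.primeCompl) hunit
  let algO : Algebra O R := g.toAlgebra
  have htow : IsScalarTower A O R := IsScalarTower.of_algebraMap_eq fun a => (IsLocalization.lift_eq hunit a).symm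
  have hflatO : Module.Flat O R := (Module.flat_iff_of_isLocalization O p.primeCompl R).mpr hflat
  have hloc : IsLocalHom (algebraMap O R) := by
    refine ⟨fun a ha => ?_⟩
    obtain ⟨b, s, rfl⟩ := IsLocalization.exists_mk'_eq p.primeCompl a
    rw [IsLocalization.AtPrime.isUnit_mk'_iff O p b s]
    intro hb
    have h1 : algebraMap O R (IsLocalization.mk' O b s) * f s = f b := by
      have h2 := congrArg (algebraMap O R) (IsLocalization.mk'_spec O b s)
      rw [map_mul] at h2
      have h3 : algebraMap O R (algebraMap A O s) = f s := IsLocalization.lift_eq hunit _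
      have h4 : algebraMap O R (algebraMap A O b) = f b := IsLocalization.lift_eq hunit _
      rwa [h3, h4] at h2
    have h2 : IsUnit (f b) := h1 ▸ ha.mul (hunit s)
    exact ((mem_maximalIdeal _).mp hb) h2
  have hff : Module.FaithfullyFlat O R := Module.FaithfullyFlat.of_flat_of_isLocalHom
  apply le_antisymm
  · intro a ha
    have h1 : algebraMap O R (algebraMap A O a) ∈ (Ideal.span {algebraMap A O x}).map (algebraMap O R) := by
      rw [Ideal.map_span, Set.image_singleton]
      have h3 : algebraMap O R (algebraMap A O a) = f a := IsLocalization.lift_eq hunit _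
      have h4 : algebraMap O R (algebraMap A O x) = f x := IsLocalization.lift_eq hunit _
      rw [h3, h4]
      exact ha
    have h2 : algebraMap A O a ∈ Ideal.span {algebraMap A O x} := by
      rw [← Ideal.comap_map_eq_self_of_faithfullyFlat (B := R) (Ideal.span {algebraMap A O x})]
      exact h1
    rw [← Set.image_singleton, ← Ideal.map_span] at h2
    obtain ⟨s, hs⟩ := (IsLocalization.algebraMap_mem_map_algebraMap_iff p.primeCompl O _ _).mp h2
    obtain ⟨hs1, hs2⟩ := hs
    rcases hpr.mem_or_mem hs2 with h | h
    · exact absurd (show s ∈ p from (Ideal.span_singleton_le_iff_mem _).mpr (show x ∈ p from hx) h) hs1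
    · exact h
  · rw [Ideal.span_singleton_le_iff_mem]
    exact Ideal.subset_span rfl

end Groth.Agent.Neron.K446.HensDvr
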