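import Groth.Agent.Sga1.AbhMain
import Groth.Agent.Sga1.AbhMixed2
import Groth.Agent.Sga1.AbhExp
import Groth.Agent.Pi1.H382.Tame0
import Groth.Agent.Pi1.H415.KumSH
import Groth.Agent.Hensel.K143.EssEt
import Groth.Agent.NonAbH1.K550.RegPairs
import Groth.Agent.Sga1.AbhKumDvr
import Mathlib.RingTheory.TotallySplit

/-!
# Finite étale algebras over `R[1/x]` split over a Kummer covering

`R` strictly henselian regular local of residue characteristic zero and `x` a member of a regular
system of parameters: every finite étale algebra over `R[1/x]` splits over `R[t]/(t^N - x)[1/x]` for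
some `N`.
-/

set_option autoImplicit false
universe u

open IsLocalRing TensorProduct SGA1 Groth.Agent.Sga1.AbhDefs

namespace Groth.Agent.Neron.K446.KumSplit

/-- A finite étale algebra over a strictly henselian local ring is split. -/
theorem isFiniteSplit (R C : Type u) [CommRing R] [HenselianLocalRing R] [IsSepClosed (ResidueField R)]
    [CommRing C] [Algebra R C] [Module.Finite R C] [Algebra.Etale R C] : Algebra.IsFiniteSplit R C := by
  have h1 : Algebra.IsFiniteSplit (ResidueField R) (ResidueField R ⊗[R] C) := inferInstance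
  obtain ⟨n, ⟨e⟩⟩ := Algebra.IsFiniteSplit.nonempty_algEquiv_fun (ResidueField R)
    (ResidueField R ⊗[R] C)
  have h2 : Algebra.IsFiniteSplit R (Fin n → R) := ⟨n, ⟨AlgEquiv.refl⟩⟩
  let e2 : ResidueField R ⊗[R] (Fin n → R) ≃ₐ[ResidueField R] (Fin n → ResidueField R) :=
    Algebra.TensorProduct.piScalarRight R (ResidueField R) (ResidueField R) (Fin n)
  obtain ⟨e3⟩ := _root_.K143.EssEt.nonempty_algEquiv R C (Fin n → R) (e.trans e2.symm)
  exact ⟨n, ⟨e3⟩⟩

/-- Tameness is automatic in residue characteristic zero. -/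
theorem isTameAlong (A : Type u) [CommRing A] [IsLocalRing A] [IsDomain A]
    [CharZero (ResidueField A)] {r : ℕ} (f : Fin r → A) [∀ i, (Ideal.span {f i}).IsPrime]
    (hf0 : ∀ i, f i ≠ 0)
    (hf : ∀ i, IsDiscreteValuationRing (Localization.AtPrime (Ideal.span {f i})))
    (B : Type u) [CommRing B] [Algebra A B] [Algebra (Localization.Away (∏ i, f i)) B]
    [IsScalarTower A (Localization.Away (∏ i, f i)) B]
    [Module.Finite (Localization.Away (∏ i, f i)) B] : SGA1.IsTameAlong f (algebraMap A B) := by
  have hF0 : ∏ i, f i ≠ 0 := Finset.prod_ne_zero_iff.mpr fun i _ => hf0 i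
  intro i q hqp hq
  have hdvr := hf i
  have : IsDomain (Localization.Away (∏ i, f i)) :=
    IsLocalization.isDomain_localization (powers_le_nonZeroDivisors_of_noZeroDivisors hF0)
  have : Algebra.IsAlgebraic A (Localization.Away (∏ i, f i)) :=
    IsLocalization.isAlgebraic (Localization.Away (∏ i, f i)) (Submonoid.powers (∏ i, f i))
  have halg : Algebra.IsAlgebraic A q.ResidueField :=
    Pi1.H382.Tame0.isAlgebraic_residueField A (Localization.Away (∏ i, f i)) B q hq
  have hchar : CharZero (ResidueField (Localization.AtPrime (Ideal.span {f i}))) :=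
    Pi1.H382.Tame0.charZero_of_residue A (algebraMap A _)
  have hg : ∀ a, SGA1.genericResidueMap (algebraMap A B) (Ideal.span {f i}) q hq
      (algebraMap A _ a) = algebraMap A q.ResidueField a := by
    intro a
    exact IsLocalization.lift_eq _ a
  have hRinj :
      Function.Injective (algebraMap A (Localization.AtPrime (Ideal.span {f i}))) :=
    IsLocalization.injective _ (Ideal.primeCompl_le_nonZeroDivisors (Ideal.span {f i}))
  have hinj : Function.Injective (algebraMap A q.ResidueField) := by
    rw [injective_iff_map_eq_zero]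
    intro a ha
    have ha' : algebraMap B q.ResidueField (algebraMap A B a) = 0 := ha
    have h5 : algebraMap A B a ∈ q := by
      rw [← Ideal.ker_algebraMap_residueField q, RingHom.mem_ker]
      exact ha'
    have h6 : a ∈ q.comap (algebraMap A B) := h5
    rw [hq] at h6
    exact h6
  refine Pi1.H382.Tame0.isTamelyRamified _ _ ?_ ?_
  · rw [injective_iff_map_eq_zero]
    intro x hx
    obtain ⟨a, s, rfl⟩ := IsLocalization.exists_mk'_eq (Ideal.span {f i}).primeCompl x
    have h1 : SGA1.genericResidueMap (algebraMap A B) (Ideal.span {f i}) q hq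
        (algebraMap A _ a) = 0 := by
      rw [← IsLocalization.mk'_spec (Localization.AtPrime (Ideal.span {f i})) a s, map_mul, hx,
        zero_mul]
    rw [hg] at h1
    rw [IsLocalization.mk'_eq_zero_iff]
    exact ⟨1, by rw [(injective_iff_map_eq_zero _).mp hinj a h1, mul_zero]⟩
  · intro x
    obtain ⟨P, hP0, hP⟩ := halg.isAlgebraic x
    refine ⟨P.map (algebraMap A _), (Polynomial.map_ne_zero_iff hRinj).mpr hP0, ?_⟩
    rw [Polynomial.eval₂_map]
    have : (SGA1.genericResidueMap (algebraMap A B) (Ideal.span {f i}) q hq).comp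
        (algebraMap A (Localization.AtPrime (Ideal.span {f i}))) = algebraMap A q.ResidueField :=
      RingHom.ext hg
    rw [Polynomial.aeval_def] at hP
    rw [← hP]
    exact congrArg (fun g => P.eval₂ g x) this

/-- The Kummer algebra `R[t]/(t^N - x)`. -/
abbrev Kum (R : Type u) [CommRing R] (x : R) (N : ℕ) : Type u :=
  SGA1.kummerAlg R (fun _ : Fin 1 => x) (fun _ => N)

/-- The coordinate of the Kummer algebra. -/
noncomputable abbrev tt (R : Type u) [CommRing R] (x : R) (N : ℕ) : Kum R x N :=
  Groth.Agent.Sga1.Kummer.T (fun _ : Fin 1 => x) (fun _ => N) 0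

section

variable (A : Type u) [CommRing A] [IsRegularLocalRing A] (x : A) (hx : x ∈ maximalIdeal A)
  (hx2 : x ∉ maximalIdeal A ^ 2)

include hx hx2

theorem linearIndependent : LinearIndependent (ResidueField A)
    (fun i : Fin 1 => (maximalIdeal A).toCotangent ⟨(fun _ : Fin 1 => x) i, (fun _ : Fin 1 => hx) i⟩) := by
  rw [linearIndependent_unique_iff]
  intro h
  rw [Ideal.toCotangent_eq_zero] at h
  exact hx2 h

theorem isRegularLocalRing_kum (N : ℕ) (hN : 1 ≤ N) : IsRegularLocalRing (Kum A x N) :=
  Groth.Agent.Sga1.KummerReg.isRegularLocalRing (fun _ : Fin 1 => x) (fun _ => N) (fun _ => hx)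
    (linearIndependent A x hx hx2) (fun _ => hN)

theorem isDomain_kum (N : ℕ) (hN : 1 ≤ N) : IsDomain (Kum A x N) :=
  Groth.Agent.Sga1.AbhLocal.isDomain_kummer A (fun _ : Fin 1 => x) (fun _ => hx)
    (linearIndependent A x hx hx2) (fun _ => N) (fun _ => hN)

omit hx hx2 in
theorem injective_kum [IsDomain A] (N : ℕ) (hN : 1 ≤ N) : Function.Injective (algebraMap A (Kum A x N)) :=
  Groth.Agent.Sga1.AbhLocal.injective_kummer A (fun _ : Fin 1 => x) (fun _ => N) (fun _ => hN)

/-- Finite étale algebras over `A[1/x]` split over a Kummer covering. -/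
theorem exists_split_aux [HenselianLocalRing A] [IsSepClosed (ResidueField A)] [CharZero (ResidueField A)]
    (F : A) (hF : F = ∏ i : Fin 1, (fun _ : Fin 1 => x) i)
    (B : Type u) [CommRing B] [Algebra A B] [Algebra (Localization.Away F) B]
    [IsScalarTower A (Localization.Away F) B]
    [Module.Finite (Localization.Away F) B] [Algebra.Etale (Localization.Away F) B] :
    ∃ N : ℕ, 1 ≤ N ∧ Algebra.IsFiniteSplit (Localization.Away (algebraMap A (Kum A x N) F))
      (Localization.Away (algebraMap A (Kum A x N) F) ⊗[A] B) := by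
  have : IsDomain A := Groth.Agent.CalgA.RegBasic.isDomain A
  have hpr : (Ideal.span {x}).IsPrime := _root_.K550.RegPairs.isPrime_span_of_notMem_sq hx hx2
  have hpr' : ∀ i : Fin 1, (Ideal.span {(fun _ : Fin 1 => x) i}).IsPrime := fun _ => hpr
  have hx0 : x ≠ 0 := by
    rintro rfl
    exact hx2 (Ideal.zero_mem _)
  subst hF
  have htame : SGA1.IsTameAlong (fun _ : Fin 1 => x) (algebraMap A B) :=
    isTameAlong A (fun _ : Fin 1 => x) (fun _ => hx0)
      (fun _ => (Groth.Agent.Sga1.AbhKumDvr.isDiscreteValuationRing_localization A x hx0).1) B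
  have hm : ∀ i : Fin 1, (fun _ : Fin 1 => x) i ∈ maximalIdeal A := fun _ => hx
  have hf := linearIndependent A x hx hx2
  obtain ⟨N, hN1, hN2, hN3⟩ := Groth.Agent.Sga1.AbhExp.exists_exponent A (fun _ : Fin 1 => x) hm B htame
    (fun p hp _ j hj => Groth.Agent.Sga1.AbhMixed.mixed A (fun _ : Fin 1 => x) hm hf B htame p hp j hj)
  obtain ⟨C, _, _, hC1, hC2, ⟨e⟩⟩ := Groth.Agent.Sga1.AbhMain.alg_main A (fun _ : Fin 1 => x) hm hf B htame
    (fun _ => N) (fun _ => hN1) hN3
  refine ⟨N, hN1, ?_⟩
  have hreg : IsRegularLocalRing (Kum A x N) := isRegularLocalRing_kum A x hx hx2 N hN1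
  have hhens : HenselianLocalRing (Kum A x N) :=
    Groth.Agent.Pi1.H415.KumSH.henselian (fun _ : Fin 1 => x) (fun _ => N) hm (fun _ => hN1)
  have hsep : IsSepClosed (ResidueField (Kum A x N)) :=
    Groth.Agent.Pi1.H415.KumSH.isSepClosed_residueField (fun _ : Fin 1 => x) (fun _ => N) hm (fun _ => hN1)
  have hsplit : Algebra.IsFiniteSplit (Kum A x N) C := isFiniteSplit (Kum A x N) C
  obtain ⟨n, ⟨e1⟩⟩ := Algebra.IsFiniteSplit.nonempty_algEquiv_fun (Kum A x N) C
  let Q := Localization.Away (algebraMap A (Kum A x N) (∏ i : Fin 1, (fun _ : Fin 1 => x) i))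
  let e2 : Q ⊗[Kum A x N] C ≃ₐ[Q] (Fin n → Q) :=
    (Algebra.TensorProduct.congr AlgEquiv.refl e1).trans
      (Algebra.TensorProduct.piScalarRight (Kum A x N) Q Q (Fin n))
  exact ⟨n, ⟨e.symm.trans e2⟩⟩

/-- Finite étale algebras over `A[1/x]` split over a Kummer covering. -/
theorem exists_split [HenselianLocalRing A] [IsSepClosed (ResidueField A)] [CharZero (ResidueField A)]
    (B : Type u) [CommRing B] [Algebra A B] [Algebra (Localization.Away x) B]
    [IsScalarTower A (Localization.Away x) B]
    [Module.Finite (Localization.Away x) B] [Algebra.Etale (Localization.Away x) B] :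
    ∃ N : ℕ, 1 ≤ N ∧ Algebra.IsFiniteSplit (Localization.Away (algebraMap A (Kum A x N) x))
      (Localization.Away (algebraMap A (Kum A x N) x) ⊗[A] B) :=
  exists_split_aux A x hx hx2 x (by simp) B

end

end Groth.Agent.Neron.K446.KumSplit
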