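import Groth.Agent.Neron.K446.AbhSch
import Groth.Agent.Sga7.H738.S4057Comm
import Groth.Agent.Sga7.H751.SecRoot
import Groth.Agent.Sga7.H729.Dict
import Groth.Agent.S7789
import Groth.Agent.Flat2B.SmoothGeom

/-!
# Points of a semi-abelian scheme over strictly henselian regular local rings

`A` a ring with an element `x`, `G` a semi-abelian scheme over `A` which is proper over `A[1/x]`.  For
`A`-algebras `R` (strictly henselian, regular local, residue characteristic zero, `x` a member of a regular
system of parameters) we compare `G(R)` and `G(R[1/x])`.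
-/

set_option autoImplicit false
universe u

open IsLocalRing CategoryTheory CategoryTheory.Limits AlgebraicGeometry MonObj
open MonoidalCategory CartesianMonoidalCategory

namespace Groth.Agent.Neron.K446.Local

open Groth.Agent.Sga67.TorsionLift (sp spMap spMap_comp)
open Groth.Agent.Sga7.H729.Dict (bcPts bcPts_left compHom)

/-- `R[1/x]` for an `A`-algebra `R`. -/
abbrev Rx {A : Type u} [CommRing A] (x : A) (R : Type u) [CommRing R] [Algebra A R] : Type u :=
  Localization.Away (algebraMap A R x)

/-- Standing hypotheses: a semi-abelian scheme over a `ℚ`-algebra, proper over `A[1/x]`. -/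
structure SA {A : Type u} [CommRing A] (x : A) (G : Over (Spec (CommRingCat.of A))) [GrpObj G] : Prop where
  units : ∀ n : ℕ, 0 < n → IsUnit (n : A)
  sab : SGA7.FibresUnipotentRankZero G
  conn : ∀ (L : Type u) [Field L] (t : Spec (CommRingCat.of L) ⟶ Spec (CommRingCat.of A)),
    ConnectedSpace ↑(pullback G.hom t)
  prop : IsProper (pullback.snd G.hom (Spec.map (CommRingCat.ofHom (algebraMap A (Localization.Away x)))))

/-- `x` is a member of a regular system of parameters of `R`. -/
structure Par {A : Type u} [CommRing A] (x : A) (R : Type u) [CommRing R] [IsLocalRing R] [Algebra A R] :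
    Prop where
  mem : algebraMap A R x ∈ maximalIdeal R
  notMem : algebraMap A R x ∉ maximalIdeal R ^ 2

/-- Infinitely divisible sections of the generic part extend (regular local base, algebraically closed
residue field of characteristic zero). -/
def DivExt : Prop := ∀ (R : Type u) [CommRing R] [IsRegularLocalRing R] [CharZero (ResidueField R)]
  [IsSepClosed (ResidueField R)] (x : R) (_ : x ≠ 0)
  (𝒜 : Over (Spec (CommRingCat.of R))) [GrpObj 𝒜] [IsCommMonObj 𝒜] [Smooth 𝒜.hom] [IsSeparated 𝒜.hom]
  [QuasiCompact 𝒜.hom] (_ : SGA7.FibresUnipotentRankZero 𝒜)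
  (_ : ∀ (L : Type u) [Field L] (t : Spec (CommRingCat.of L) ⟶ Spec (CommRingCat.of R)),
    ConnectedSpace ↑(pullback 𝒜.hom t))
  (_ : IsProper (pullback.snd 𝒜.hom (Spec.map (CommRingCat.ofHom (algebraMap R (Localization.Away x))))))
  (c : sp R (Localization.Away x) ⟶ 𝒜)
  (_ : ∀ n : ℕ, 0 < n → ∃ y : sp R (Localization.Away x) ⟶ 𝒜, y ^ n = c),
    ∃ c' : sp R R ⟶ 𝒜, spMap (Algebra.ofId R (Localization.Away x)) ≫ c' = c

/-- Some power of every generic section extends (strictly henselian discrete valuation rings). -/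
def PowExt : Prop := ∀ (V K : Type u) [CommRing V] [IsDomain V] [IsDiscreteValuationRing V]
  [HenselianLocalRing V] [IsSepClosed (IsLocalRing.ResidueField V)] [CharZero (IsLocalRing.ResidueField V)]
  [Field K] [Algebra V K] [IsFractionRing V K]
  (𝒜 : Over (Spec (CommRingCat.of V))) [GrpObj 𝒜] [IsCommMonObj 𝒜] [Smooth 𝒜.hom] [IsSeparated 𝒜.hom]
  [QuasiCompact 𝒜.hom] (_ : SGA7.FibresUnipotentRankZero 𝒜)
  (_ : ∀ (L : Type u) [Field L] (t : Spec (CommRingCat.of L) ⟶ Spec (CommRingCat.of V)),
    ConnectedSpace ↑(pullback 𝒜.hom t))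
  (_ : IsProper (pullback.snd 𝒜.hom (Spec.map (CommRingCat.ofHom (algebraMap V K))))),
    ∃ m : ℕ, 0 < m ∧ ∀ c : sp V K ⟶ 𝒜, ∃ c' : sp V V ⟶ 𝒜, spMap (Algebra.ofId V K) ≫ c' = c ^ m

section BC

variable {A R T T' : Type u} [CommRing A] [CommRing R] [CommRing T] [CommRing T'] [Algebra A R] [Algebra R T]
  [Algebra A T] [IsScalarTower A R T] [Algebra R T'] [Algebra A T'] [IsScalarTower A R T']
  (G : Over (Spec (CommRingCat.of A))) [GrpObj G]

variable (A R) in
/-- `Spec R → Spec A`. -/
noncomputable abbrev st : Spec (CommRingCat.of R) ⟶ Spec (CommRingCat.of A) :=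
  Spec.map (CommRingCat.ofHom (algebraMap A R))

variable (A R T) in
theorem st_comp : st R T ≫ st A R = st A T := by
  rw [← Spec.map_comp, ← CommRingCat.ofHom_comp, ← IsScalarTower.algebraMap_eq]

variable (A R T) in
/-- `Spec T` over `Spec A`, through `Spec R`. -/
noncomputable def towIso : sp A T ≅ (Over.map (st A R)).obj (sp R T) :=
  Over.isoMk (Iso.refl _) (by
    change 𝟙 _ ≫ st R T ≫ st A R = st A T
    rw [Category.id_comp, st_comp])

/-- Precomposition with an isomorphism. -/
noncomputable def preIso {C : Type*} [Category C] [CartesianMonoidalCategory C] {X Y : C} (e : X ≅ Y) (G : C)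
    [GrpObj G] : (Y ⟶ G) ≃* (X ⟶ G) where
  toFun g := e.hom ≫ g
  invFun g := e.inv ≫ g
  left_inv g := by simp
  right_inv g := by simp
  map_mul' _ _ := MonObj.comp_mul _ _ _

/-- Points of a base change. -/
noncomputable def bcSp : (sp R T ⟶ Red.bc (st A R) G) ≃* (sp A T ⟶ G) :=
  (bcPts (st A R) G (sp R T)).trans (preIso (towIso A R T) G)

theorem bcSp_left (z : sp R T ⟶ Red.bc (st A R) G) :
    (bcSp G z).left = z.left ≫ pullback.fst G.hom (st A R) := by
  change 𝟙 _ ≫ (bcPts (st A R) G (sp R T) z).left = _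
  rw [Category.id_comp, bcPts_left]

theorem bcSp_spMap (ψ : T →ₐ[R] T') (z : sp R T ⟶ Red.bc (st A R) G) :
    bcSp G (spMap ψ ≫ z) = spMap (ψ.restrictScalars A) ≫ bcSp G z := by
  ext1
  rw [Over.comp_left, bcSp_left, bcSp_left, Over.comp_left, Category.assoc]
  rfl

omit [GrpObj G] in
theorem isPullback_bc : IsPullback (pullback.fst G.hom (st A R)) (pullback.snd G.hom (st A R)) G.hom (st A R) :=
  IsPullback.of_hasPullback _ _

end BC

section Base

variable {A : Type u} [CommRing A] {x : A} {G : Over (Spec (CommRingCat.of A))} [GrpObj G]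

theorem SA.natCast_ne_zero (hG : SA x G) (n : ℕ) (hn : 0 < n) (s : Spec (CommRingCat.of A)) :
    (n : (Spec (CommRingCat.of A)).residueField s) ≠ 0 := by
  obtain ⟨g, -⟩ := Spec.map_surjective ((Spec (CommRingCat.of A)).fromSpecResidueField s)
  have h := (hG.units n hn).map g.hom
  rw [map_natCast] at h
  exact h.ne_zero

theorem SA.etale_pow [IsCommMonObj G] [Smooth G.hom] (hG : SA x G) (n : ℕ) (hn : 0 < n) :
    Etale (𝟙 G ^ n).left :=
  Groth.Agent.Sga7.H751.PowEtale.etale_pow G n (hG.natCast_ne_zero n hn)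

/-- The square defining the base change of the base change. -/
theorem isPullback_snd {X Y Z T : Scheme.{u}} (g : X ⟶ Z) (f : Y ⟶ Z) (h : T ⟶ Y) :
    IsPullback (pullback.lift (pullback.fst g (h ≫ f)) (pullback.snd g (h ≫ f) ≫ h)
      (by rw [pullback.condition, Category.assoc])) (pullback.snd g (h ≫ f)) (pullback.snd g f) h :=
  IsPullback.of_right (by
    rw [pullback.lift_fst]
    exact IsPullback.of_hasPullback g (h ≫ f)) (by rw [pullback.lift_snd]) (IsPullback.of_hasPullback g f)

theorem SA.isProper_snd (hG : SA x G) (T : Type u) [CommRing T] [Algebra A T] (hT : IsUnit (algebraMap A T x)) :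
    IsProper (pullback.snd G.hom (st A T)) := by
  let l : Localization.Away x →+* T := IsLocalization.Away.lift x hT
  have h1 : st A T = Spec.map (CommRingCat.ofHom l) ≫ st A (Localization.Away x) := by
    rw [← Spec.map_comp, ← CommRingCat.ofHom_comp]
    change Spec.map (CommRingCat.ofHom (algebraMap A T)) = _
    congr 2
    exact RingHom.ext fun a => (IsLocalization.Away.lift_eq x hT a).symm
  have h2 := hG.prop
  rw [h1]
  exact MorphismProperty.of_isPullback (P := @IsProper)
    (isPullback_snd G.hom (st A (Localization.Away x)) (Spec.map (CommRingCat.ofHom l))) h2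

theorem SA.bc (R : Type u) [CommRing R] [Algebra A R] [LocallyOfFiniteType G.hom] (hG : SA x G) :
    SA (algebraMap A R x) (Red.bc (st A R) G) where
  units n hn := by
    have h := (hG.units n hn).map (algebraMap A R)
    rwa [map_natCast] at h
  sab := Groth.Agent.Sga7.H738.RankZeroBc.fibresUnipotentRankZero_bc Groth.Agent.Sga7.H738.S4057Comm.l2
    (st A R) G hG.sab
  conn L _ t := by
    have h1 := hG.conn L (t ≫ st A R)
    have h2 : IsPullback _ _ (pullback.snd G.hom (st A R)) t := isPullback_snd G.hom (st A R) t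
    exact (Scheme.homeoOfIso h2.isoPullback).surjective.connectedSpace
      (Scheme.homeoOfIso h2.isoPullback).continuous
  prop := by
    have h1 := hG.isProper_snd (Localization.Away (algebraMap A R x)) (by
      rw [IsScalarTower.algebraMap_apply A R (Localization.Away (algebraMap A R x))]
      exact IsLocalization.Away.algebraMap_isUnit (S := Localization.Away (algebraMap A R x)) _)
    have h3 : st R (Localization.Away (algebraMap A R x)) ≫ st A R =
        st A (Localization.Away (algebraMap A R x)) := st_comp A R _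
    have h2 := isPullback_snd G.hom (st A R) (st R (Localization.Away (algebraMap A R x)))
    rw [← h3] at h1
    have h4 : pullback.snd (pullback.snd G.hom (st A R)) (st R (Localization.Away (algebraMap A R x))) =
        h2.isoPullback.inv ≫ pullback.snd G.hom (st R (Localization.Away (algebraMap A R x)) ≫ st A R) := by
      rw [h2.isoPullback_inv_snd]
    change IsProper (pullback.snd (pullback.snd G.hom (st A R)) (st R (Localization.Away (algebraMap A R x))))
    rw [h4]
    infer_instance

instance {R : Type u} [CommRing R] [Algebra A R] [Smooth G.hom] : Smooth (Red.bc (st A R) G).hom :=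
  inferInstanceAs (Smooth (pullback.snd G.hom (st A R)))

instance {R : Type u} [CommRing R] [Algebra A R] [IsSeparated G.hom] : IsSeparated (Red.bc (st A R) G).hom :=
  inferInstanceAs (IsSeparated (pullback.snd G.hom (st A R)))

instance {R : Type u} [CommRing R] [Algebra A R] [QuasiCompact G.hom] : QuasiCompact (Red.bc (st A R) G).hom :=
  inferInstanceAs (QuasiCompact (pullback.snd G.hom (st A R)))

end Base

section Root

variable {A : Type u} [CommRing A] {x : A} {G : Over (Spec (CommRingCat.of A))} [GrpObj G] [IsCommMonObj G]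
  [Smooth G.hom]

omit [IsCommMonObj G] in
attribute [local instance] Functor.grpObjObj in
/-- The scheme of `n`-th roots of a point over a ring in which `x` is invertible is finite étale. -/
theorem SA.finEt_root (hG : SA x G) (T : Type u) [CommRing T] [Algebra A T] (hT : IsUnit (algebraMap A T x))
    (c : sp A T ⟶ G) (n : ℕ) (hn : 0 < n) :
    IsFinite (pullback.fst c.left (𝟙 G ^ n).left) ∧ Etale (pullback.fst c.left (𝟙 G ^ n).left) := by
  let X : Over (Spec (CommRingCat.of T)) := Red.bc (st A T) G
  have h1 : IsProper X.hom := hG.isProper_snd T hT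
  have h2 : Smooth X.hom := inferInstance
  have h3 : GeometricallyReduced X.hom := Groth.Agent.Flat2B.SmoothGeom.geometricallyReduced_of_smooth X.hom
  have h4 : GeometricallyConnected X.hom := by
    rw [GeometricallyConnected.eq_geometrically, geometrically_iff_of_isClosedUnderIsomorphisms]
    intro L _ t
    exact (hG.bc T).conn L t
  have hnT : IsUnit (((n : ℕ) : ℤ) : Γ(Spec (CommRingCat.of T), ⊤)) := by
    have h := (((hG.units n hn).map (algebraMap A T)).map
      (Scheme.ΓSpecIso (CommRingCat.of T)).inv.hom)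
    rw [map_natCast, map_natCast] at h
    rwa [Int.cast_natCast]
  obtain ⟨h5, h6⟩ := Groth.Agent.S7789.result X (n : ℤ) hnT
  rw [zpow_natCast] at h5 h6
  -- the square for the power maps
  have sq0 : IsPullback (pullback.fst G.hom (st A T)) (𝟙 X ^ n).left (𝟙 G ^ n).left
      (pullback.fst G.hom (st A T)) := by
    refine IsPullback.of_bot (h₃₁ := st A T) (v₂₁ := X.hom) (v₂₂ := G.hom) ?_ ?_ (IsPullback.of_hasPullback _ _)
    · rw [Over.w (𝟙 X ^ n), Over.w (𝟙 G ^ n)]
      exact IsPullback.of_hasPullback _ _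
    · have h7 : (Over.pullback (st A T)).map (𝟙 G ^ n) = (𝟙 X ^ n : X ⟶ X) := by
        have h8 : ∀ k : ℕ, (Over.pullback (st A T)).map (𝟙 G ^ k) = (𝟙 X ^ k : X ⟶ X) := by
          intro k
          induction k with
          | zero => rw [pow_zero, pow_zero]; exact Functor.map_one _
          | succ k ih =>
            rw [pow_succ, pow_succ, ← ih]
            refine (Functor.map_mul _ _ _).trans ?_
            congr 1
            exact (Over.pullback (st A T)).map_id G
        exact h8 n
      rw [← h7]
      exact (pullback.lift_fst _ _ _).symm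
  let cT : Spec (CommRingCat.of T) ⟶ X.left := pullback.lift c.left (𝟙 _) (by
    rw [Category.id_comp]; exact Over.w c)
  have hcT : cT ≫ pullback.fst G.hom (st A T) = c.left := pullback.lift_fst _ _ _
  have sq1 : IsPullback (sq0.lift (pullback.snd c.left (𝟙 G ^ n).left)
      (pullback.fst c.left (𝟙 G ^ n).left ≫ cT) (by rw [Category.assoc, hcT, pullback.condition]))
      (pullback.fst c.left (𝟙 G ^ n).left) (𝟙 X ^ n).left cT := by
    refine IsPullback.of_right (h₁₂ := pullback.fst G.hom (st A T)) (v₁₃ := (𝟙 G ^ n).left)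
      (h₂₂ := pullback.fst G.hom (st A T)) ?_ (sq0.lift_snd _ _ _) sq0
    rw [sq0.lift_fst, hcT]
    exact (IsPullback.of_hasPullback _ _).flip
  exact ⟨MorphismProperty.of_isPullback (P := @IsFinite) sq1 h5,
    MorphismProperty.of_isPullback (P := @Etale) sq1 h6⟩

theorem isUnit_Rx (x : A) (R : Type u) [CommRing R] [Algebra A R] : IsUnit (algebraMap A (Rx x R) x) := by
  rw [IsScalarTower.algebraMap_apply A R (Rx x R)]
  exact IsLocalization.Away.algebraMap_isUnit (S := Rx x R) _

theorem isUnit_locx (x : A) {R R' : Type u} [CommRing R] [CommRing R'] [Algebra A R] [Algebra A R']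
    (φ : R →ₐ[A] R') : IsUnit (((algebraMap R' (Rx x R')).comp (φ : R →+* R')) (algebraMap A R x)) := by
  change IsUnit (algebraMap R' (Rx x R') (φ (algebraMap A R x)))
  rw [φ.commutes]
  exact IsLocalization.Away.algebraMap_isUnit (S := Rx x R') _

/-- The localized map `R[1/x] → R'[1/x]`. -/
noncomputable def locx (x : A) {R R' : Type u} [CommRing R] [CommRing R'] [Algebra A R] [Algebra A R']
    (φ : R →ₐ[A] R') : Rx x R →ₐ[A] Rx x R' :=
  { IsLocalization.Away.lift (S := Rx x R) (g := (algebraMap R' (Rx x R')).comp (φ : R →+* R'))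
      (algebraMap A R x) (isUnit_locx x φ) with
    commutes' := fun a => by
      rw [IsScalarTower.algebraMap_apply A R (Rx x R)]
      refine (IsLocalization.Away.lift_eq (S := Rx x R) (algebraMap A R x) (isUnit_locx x φ) _).trans ?_
      change algebraMap R' (Rx x R') (φ (algebraMap A R a)) = _
      rw [φ.commutes, ← IsScalarTower.algebraMap_apply A R' (Rx x R')] }

theorem locx_algebraMap (x : A) {R R' : Type u} [CommRing R] [CommRing R'] [Algebra A R] [Algebra A R']
    (φ : R →ₐ[A] R') (a : R) : locx x φ (algebraMap R _ a) = algebraMap R' _ (φ a) :=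
  IsLocalization.Away.lift_eq (S := Rx x R) (algebraMap A R x) (isUnit_locx x φ) a

theorem locx_comp (x : A) {R R' R'' : Type u} [CommRing R] [CommRing R'] [CommRing R''] [Algebra A R]
    [Algebra A R'] [Algebra A R''] (φ : R →ₐ[A] R') (ψ : R' →ₐ[A] R'') :
    (locx x ψ).comp (locx x φ) = locx x (ψ.comp φ) := by
  apply AlgHom.coe_ringHom_injective
  refine IsLocalization.ringHom_ext (Submonoid.powers (algebraMap A R x)) (RingHom.ext fun a => ?_)
  change locx x ψ (locx x φ (algebraMap R _ a)) = locx x (ψ.comp φ) (algebraMap R _ a)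
  rw [locx_algebraMap, locx_algebraMap, locx_algebraMap]
  rfl

/-- The morphism `Spec R[1/x] → Spec R`. -/
noncomputable def rx (x : A) (R : Type u) [CommRing R] [Algebra A R] : sp A (Rx x R) ⟶ sp A R :=
  spMap (IsScalarTower.toAlgHom A R (Rx x R))

theorem spMap_locx_rx (x : A) {R R' : Type u} [CommRing R] [CommRing R'] [Algebra A R] [Algebra A R']
    (φ : R →ₐ[A] R') : spMap (locx x φ) ≫ rx x R = rx x R' ≫ spMap φ := by
  rw [rx, rx, spMap_comp, spMap_comp]
  congr 1
  ext a
  exact locx_algebraMap x φ a

variable {R R' : Type u} [CommRing R] [CommRing R'] [Algebra A R] [Algebra A R']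

/-- `n`-th roots of sections over `R[1/x]` descend from extensions. -/
theorem SA.exists_root_descend [IsRegularLocalRing R] [HenselianLocalRing R] [IsSepClosed (ResidueField R)]
    [CharZero (ResidueField R)] [IsRegularLocalRing R'] (hG : SA x G) (φ : R →ₐ[A] R') (hR : Par x R)
    (hR' : Par x R') (n : ℕ) (hn : 0 < n) (c : sp A (Rx x R) ⟶ G) (d' : sp A (Rx x R') ⟶ G)
    (hd' : d' ^ n = spMap (locx x φ) ≫ c) :
    ∃ d : sp A (Rx x R) ⟶ G, d ^ n = c ∧ spMap (locx x φ) ≫ d = d' := by
  obtain ⟨h1, h2⟩ := hG.finEt_root (Rx x R) (isUnit_Rx x R) c n hn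
  have hpow : ∀ {T : Over (Spec (CommRingCat.of A))} (z : T ⟶ G), (z ^ n).left = z.left ≫ (𝟙 G ^ n).left := by
    intro T z
    rw [← Over.comp_left, MonObj.comp_pow, Category.comp_id]
  have hd'' : (spMap (locx x φ)).left ≫ c.left = d'.left ≫ (𝟙 G ^ n).left := by
    rw [← hpow, hd', Over.comp_left]
  obtain ⟨s, hs1, hs2⟩ := AbhSch.exists_section (φ : R →+* R') (algebraMap A R x) hR.mem hR.notMem
    (algebraMap A R' x) (φ.commutes x) hR'.mem hR'.notMem (locx x φ : Rx x R →+* Rx x R')
    (RingHom.ext fun a => locx_algebraMap x φ a) (pullback.fst c.left (𝟙 G ^ n).left)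
    (pullback.lift (spMap (locx x φ)).left d'.left hd'') (pullback.lift_fst _ _ _)
  have h3 : (s ≫ pullback.snd c.left (𝟙 G ^ n).left) ≫ (𝟙 G ^ n).left = c.left := by
    rw [Category.assoc, ← pullback.condition, ← Category.assoc, hs1, Category.id_comp]
  let d : sp A (Rx x R) ⟶ G := Over.homMk (s ≫ pullback.snd c.left (𝟙 G ^ n).left) (by
    have h4 : (𝟙 G ^ n).left ≫ G.hom = G.hom := Over.w _
    rw [← h4, ← Category.assoc, h3]
    exact Over.w c)
  refine ⟨d, ?_, ?_⟩
  · ext1
    rw [hpow]
    exact h3
  · ext1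
    rw [Over.comp_left]
    change Spec.map (CommRingCat.ofHom (locx x φ : Rx x R →+* Rx x R')) ≫ s ≫ _ = _
    rw [← Category.assoc, hs2, pullback.lift_snd]

/-- Restriction from `R` to `R[1/x]`; its image consists of the points which extend. -/
noncomputable def ext (x : A) (G : Over (Spec (CommRingCat.of A))) [GrpObj G] (R : Type u) [CommRing R]
    [Algebra A R] : Subgroup (sp A (Rx x R) ⟶ G) :=
  (compHom (rx x R) G).range

omit [IsCommMonObj G] [Smooth G.hom] in
theorem mem_ext_iff {c : sp A (Rx x R) ⟶ G} : c ∈ ext x G R ↔ ∃ c' : sp A R ⟶ G, rx x R ≫ c' = c := Iff.rfl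

omit [IsCommMonObj G] [Smooth G.hom] in
theorem map_mem_ext (φ : R →ₐ[A] R') {c : sp A (Rx x R) ⟶ G} (hc : c ∈ ext x G R) :
    spMap (locx x φ) ≫ c ∈ ext x G R' := by
  obtain ⟨c', rfl⟩ := hc
  refine ⟨spMap φ ≫ c', ?_⟩
  change rx x R' ≫ spMap φ ≫ c' = spMap (locx x φ) ≫ rx x R ≫ c'
  rw [← Category.assoc, ← Category.assoc, spMap_locx_rx]

end Root

end Groth.Agent.Neron.K446.Local
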