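import Groth.Agent.Neron.K446.Trans

/-!
# The glued model

Copies of `G_{A'}` glued along the twisted charts `G_{A'[1/x]} → G_{A'}`.
-/

set_option autoImplicit false
universe u

open IsLocalRing CategoryTheory CategoryTheory.Limits AlgebraicGeometry MonObj
open MonoidalCategory CartesianMonoidalCategory

namespace Groth.Agent.Neron.K446.Local

open Groth.Agent.Sga67.TorsionLift (sp spMap spMap_comp)

variable {A : Type u} [CommRing A] {x : A} (G : Over (Spec (CommRingCat.of A))) [GrpObj G]
  {A' : Type u} [CommRing A'] [Algebra A A']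

/-- The glued model: properties. -/
structure Glued {I : Type u} (b : I → (Yx x A' ⟶ G)) (N : Over (Spec (CommRingCat.of A')))
    (φ : I → (PS G A' ⟶ N)) (j : WS x G A' ⟶ N) : Prop where
  opn : ∀ i, IsOpenImmersion (φ i).left
  comm : ∀ i, vm G (b i) ≫ φ i = j
  cover : ∀ n : N.left, ∃ i p, (φ i).left p = n
  inter : ∀ i i' p q, (φ i).left p = (φ i').left q →
    (i = i' ∧ p = q) ∨ ∃ w, (vm G (b i)).left w = p ∧ (vm G (b i')).left w = q

theorem exists_glued [IsCommMonObj G] {I : Type u} [Nonempty I] (b : I → (Yx x A' ⟶ G)) :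
    ∃ (N : Over (Spec (CommRingCat.of A'))) (φ : I → (PS G A' ⟶ N)) (j : WS x G A' ⟶ N), Glued G b N φ j := by
  obtain ⟨N, φ, j, h1, h2, h3, h4⟩ := WideGlue.exists_glue (WS x G A') (PS G A') (fun i => vm G (b i))
    (fun i => isOpenImmersion_vm G (b i))
  exact ⟨N, φ, j, h1, h2, h3, h4⟩

/-- The section of `G_{A'}` over `A'[1/x]` attached to a point. -/
noncomputable def sec (b : Yx x A' ⟶ G) : Spec (CommRingCat.of (Rx x A')) ⟶ (PS G A').left :=
  pullback.lift b.left (st A' (Rx x A')) (by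
    rw [Over.w, st_comp]
    rfl)

theorem sec_fst (b : Yx x A' ⟶ G) : sec G b ≫ pullback.fst G.hom (st A A') = b.left := pullback.lift_fst _ _ _

theorem sec_snd (b : Yx x A' ⟶ G) : sec G b ≫ pullback.snd G.hom (st A A') = st A' (Rx x A') :=
  pullback.lift_snd _ _ _

namespace Glued

variable {G} {I : Type u} {b : I → (Yx x A' ⟶ G)} {N : Over (Spec (CommRingCat.of A'))} {φ : I → (PS G A' ⟶ N)}
  {j : WS x G A' ⟶ N}

/-- The charts. -/
noncomputable def charts (h : Glued G b N φ j) : N.left.OpenCover :=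
  Scheme.Cover.mkOfCovers I (fun _ => (PS G A').left) (fun i => (φ i).left) h.cover h.opn

theorem smooth [Smooth G.hom] (h : Glued G b N φ j) : Smooth N.hom := by
  refine (IsZariskiLocalAtSource.iff_of_openCover (P := @Smooth) h.charts).2 fun i => ?_
  change Smooth ((φ i).left ≫ N.hom)
  rw [Over.w]
  change Smooth (pullback.snd G.hom (st A A'))
  infer_instance

theorem quasiCompact [QuasiCompact G.hom] [Finite I] (h : Glued G b N φ j) : QuasiCompact N.hom := by
  have h1 : CompactSpace (PS G A').left := by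
    change CompactSpace ↥(pullback G.hom (st A A'))
    exact QuasiCompact.compactSpace_of_compactSpace (pullback.snd G.hom (st A A'))
  have h2 : CompactSpace N.left := by
    refine ⟨?_⟩
    have h3 : (Set.univ : Set N.left) = ⋃ i, Set.range (φ i).left := by
      ext n
      simp only [Set.mem_univ, Set.mem_iUnion, Set.mem_range, true_iff]
      exact h.cover n
    rw [h3]
    exact isCompact_iUnion fun i => isCompact_range (φ i).left.continuous
  exact (HasAffineProperty.iff_of_isAffine (P := @QuasiCompact)).mpr h2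

theorem hom_mem_range (h : Glued G b N φ j) [IsCommMonObj G] (n : N.left)
    (hn : N.hom n ∈ Set.range (st A' (Rx x A'))) : n ∈ Set.range j.left := by
  obtain ⟨i, p, rfl⟩ := h.cover n
  have h1 : (PS G A').hom p ∈ Set.range (st A' (Rx x A')) := by
    have h2 : (PS G A').hom p = N.hom ((φ i).left p) := by
      rw [← Scheme.Hom.comp_apply, Over.w]
    rw [h2]
    exact hn
  have h2 : p ∈ Set.range (vm G (b i)).left := by
    rw [range_vm]
    exact h1
  obtain ⟨w, rfl⟩ := h2
  refine ⟨w, ?_⟩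
  rw [← Scheme.Hom.comp_apply, ← Over.comp_left, h.comm]

theorem isOpenImmersion_j [IsCommMonObj G] [Nonempty I] (h : Glued G b N φ j) : IsOpenImmersion j.left := by
  obtain ⟨i⟩ := ‹Nonempty I›
  have h1 := h.opn i
  rw [← h.comm i, Over.comp_left]
  infer_instance

theorem isPullback_j [IsCommMonObj G] [Nonempty I] (h : Glued G b N φ j) :
    IsPullback j.left (snd G (Yx x A')).left N.hom (st A' (Rx x A')) := by
  have h1 := h.isOpenImmersion_j
  refine (IsOpenImmersion.isPullback (snd G (Yx x A')).left j.left (st A' (Rx x A')) N.hom (Over.w j) ?_).flip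
  ext n
  constructor
  · intro hn
    exact h.hom_mem_range n hn
  · rintro ⟨w, rfl⟩
    refine ⟨(snd G (Yx x A')).left w, ?_⟩
    rw [← Scheme.Hom.comp_apply, ← Scheme.Hom.comp_apply, Over.w]
    rfl

theorem quasiSeparated [Smooth G.hom] [IsNoetherianRing A'] (h : Glued G b N φ j) : QuasiSeparated N.hom := by
  have h1 := h.smooth
  have h2 : IsLocallyNoetherian N.left := LocallyOfFiniteType.isLocallyNoetherian N.hom
  exact (HasAffineProperty.iff_of_isAffine (P := @QuasiSeparated)).mpr inferInstance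

theorem isSeparated [IsCommMonObj G] [Smooth G.hom] [IsSeparated G.hom] [IsNoetherianRing A']
    (h : Glued G b N φ j) (hcl : ∀ i i', i ≠ i' → IsClosedImmersion (sec G (b i * (b i')⁻¹))) :
    IsSeparated N.hom := by
  have hqs := h.quasiSeparated
  refine IsSeparated.of_valuativeCriterion N.hom fun T => ⟨?_⟩
  rintro ⟨l₁, hl₁, hl₁'⟩ ⟨l₂, hl₂, hl₂'⟩
  dsimp at *
  let κ : Spec (CommRingCat.of T.K) ⟶ Spec (CommRingCat.of T.R) :=
    Spec.map (CommRingCat.ofHom (algebraMap T.R T.K))
  change κ ≫ l₁ = T.i₁ at hl₁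
  change κ ≫ l₂ = T.i₁ at hl₂
  obtain ⟨i, y, hy⟩ := h.cover (l₁ (closedPoint T.R))
  obtain ⟨i', z, hz⟩ := h.cover (l₂ (closedPoint T.R))
  have hrange : ∀ (l : Spec (CommRingCat.of T.R) ⟶ N.left) (U : N.left.Opens), l (closedPoint T.R) ∈ U →
      ∀ t, l t ∈ U := by
    intro l U hU t
    have h1 : t ⤳ closedPoint T.R := specializes_closedPoint t
    exact (h1.map l.continuous).mem_open U.2 hU
  have ho := h.opn i
  have ho' := h.opn i'
  have r1 : Set.range l₁ ⊆ Set.range (φ i).left := by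
    rintro _ ⟨t, rfl⟩; exact hrange l₁ (φ i).left.opensRange ⟨y, hy⟩ t
  have r2 : Set.range l₂ ⊆ Set.range (φ i').left := by
    rintro _ ⟨t, rfl⟩; exact hrange l₂ (φ i').left.opensRange ⟨z, hz⟩ t
  let m₁ : Spec (CommRingCat.of T.R) ⟶ (PS G A').left := IsOpenImmersion.lift (φ i).left l₁ r1
  let m₂ : Spec (CommRingCat.of T.R) ⟶ (PS G A').left := IsOpenImmersion.lift (φ i').left l₂ r2
  have e₁ : m₁ ≫ (φ i).left = l₁ := IsOpenImmersion.lift_fac _ _ _
  have e₂ : m₂ ≫ (φ i').left = l₂ := IsOpenImmersion.lift_fac _ _ _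
  have s₁ : m₁ ≫ (PS G A').hom = T.i₂ := by rw [← Over.w (φ i), ← Category.assoc, e₁, hl₁']
  have s₂ : m₂ ≫ (PS G A').hom = T.i₂ := by rw [← Over.w (φ i'), ← Category.assoc, e₂, hl₂']
  ext1
  change l₁ = l₂
  by_cases hii : i = i'
  · subst hii
    have key : κ ≫ m₁ = κ ≫ m₂ := by
      rw [← cancel_mono (φ i).left, Category.assoc, Category.assoc, e₁, e₂, hl₁, hl₂]
    have hsep : IsSeparated (PS G A').hom := inferInstanceAs (IsSeparated (pullback.snd G.hom (st A A')))
    let T' : ValuativeCommSq (PS G A').hom :=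
      { R := T.R, K := T.K
        i₁ := κ ≫ m₁
        i₂ := T.i₂
        commSq := ⟨by rw [Category.assoc, s₁]⟩ }
    have h4 := (IsSeparated.valuativeCriterion (PS G A').hom T').elim
      ⟨m₁, rfl, s₁⟩ ⟨m₂, key.symm, s₂⟩
    have h5 : m₁ = m₂ := congrArg CommSq.LiftStruct.l h4
    rw [← e₁, ← e₂, h5]
  · -- the generic point lies in the intersection of the charts
    let pt : Spec (CommRingCat.of T.K) := closedPoint T.K
    have h3 : (φ i).left ((κ ≫ m₁) pt) = (φ i').left ((κ ≫ m₂) pt) := by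
      rw [← Scheme.Hom.comp_apply, ← Scheme.Hom.comp_apply, Category.assoc, Category.assoc, e₁, e₂, hl₁, hl₂]
    obtain ⟨hii', -⟩ | ⟨w₀, hw₀, -⟩ := h.inter i i' _ _ h3
    · exact absurd hii' hii
    have hr : Set.range (κ ≫ m₁) ⊆ Set.range (vm G (b i)).left := by
      rintro _ ⟨t, rfl⟩
      have ht : t = pt := Subsingleton.elim (α := PrimeSpectrum T.K) _ _
      rw [ht]
      exact ⟨w₀, hw₀⟩
    let w : Spec (CommRingCat.of T.K) ⟶ (WS x G A').left := IsOpenImmersion.lift (vm G (b i)).left (κ ≫ m₁) hr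
    have hw1 : w ≫ (vm G (b i)).left = κ ≫ m₁ := IsOpenImmersion.lift_fac _ _ _
    have hvφ : ∀ i, (vm G (b i)).left ≫ (φ i).left = j.left := fun i => by
      rw [← Over.comp_left, h.comm]
    have hw2 : w ≫ (vm G (b i')).left = κ ≫ m₂ := by
      rw [← cancel_mono (φ i').left, Category.assoc, Category.assoc, hvφ, e₂, hl₂, ← hl₁, ← e₁, ← Category.assoc,
        ← hw1, Category.assoc, hvφ]
    -- points
    let r : Spec (CommRingCat.of T.R) ⟶ Spec (CommRingCat.of A') := T.i₂
    let XR : Over (Spec (CommRingCat.of A)) := Over.mk (r ≫ st A A')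
    let XK : Over (Spec (CommRingCat.of A)) := Over.mk (κ ≫ r ≫ st A A')
    let κ' : XK ⟶ XR := Over.homMk κ rfl
    let M₁ : XR ⟶ G := Over.homMk (m₁ ≫ pullback.fst G.hom (st A A')) (by
      rw [Category.assoc, pullback.condition, ← Category.assoc]
      exact congr($s₁ ≫ st A A'))
    let M₂ : XR ⟶ G := Over.homMk (m₂ ≫ pullback.fst G.hom (st A A')) (by
      rw [Category.assoc, pullback.condition, ← Category.assoc]
      exact congr($s₂ ≫ st A A'))
    have hwr : w ≫ (snd G (Yx x A')).left ≫ st A' (Rx x A') = κ ≫ r := by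
      rw [← vm_snd G (b i), reassoc_of% hw1]
      exact congr(κ ≫ $s₁)
    let w' : XK ⟶ G ⊗ Yx x A' := Over.homMk w (by
      have h5 : (G ⊗ Yx x A').hom = ((snd G (Yx x A')).left ≫ st A' (Rx x A')) ≫ st A A' := by
        rw [Category.assoc, st_comp]
        exact (Over.w (snd G (Yx x A'))).symm
      rw [h5, ← Category.assoc, hwr, Category.assoc]
      rfl)
    have hw'1 : w' ≫ tw G (b i) = κ' ≫ M₁ := by
      ext1
      change w ≫ (tw G (b i)).left = κ ≫ m₁ ≫ pullback.fst G.hom (st A A')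
      rw [← vm_fst, reassoc_of% hw1]
    have hw'2 : w' ≫ tw G (b i') = κ' ≫ M₂ := by
      ext1
      change w ≫ (tw G (b i')).left = κ ≫ m₂ ≫ pullback.fst G.hom (st A A')
      rw [← vm_fst, reassoc_of% hw2]
    rw [comp_tw] at hw'1 hw'2
    let β : Yx x A' ⟶ G := b i * (b i')⁻¹
    have hβ : κ' ≫ (M₁⁻¹ * M₂) = (w' ≫ snd G (Yx x A')) ≫ β := by
      rw [MonObj.comp_mul, GrpObj.comp_inv, ← hw'1, ← hw'2, MonObj.comp_mul, GrpObj.comp_inv, _root_.mul_inv_rev,
        _root_.inv_inv, _root_.mul_assoc, _root_.inv_mul_cancel_left]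
    have hclβ := hcl i i' hii
    let D : Spec (CommRingCat.of T.R) ⟶ (PS G A').left := pullback.lift (M₁⁻¹ * M₂).left r (Over.w (M₁⁻¹ * M₂))
    have hD1 : D ≫ pullback.fst G.hom (st A A') = (M₁⁻¹ * M₂).left := pullback.lift_fst _ _ _
    have hD2 : D ≫ pullback.snd G.hom (st A A') = r := pullback.lift_snd _ _ _
    have hsq : (w' ≫ snd G (Yx x A')).left ≫ sec G β = κ ≫ D := by
      apply pullback.hom_ext
      · rw [Category.assoc, sec_fst, Category.assoc, hD1]
        exact (congrArg (fun z => z.left) hβ).symm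
      · rw [Category.assoc, sec_snd, Category.assoc, hD2]
        exact (Category.assoc _ _ _).trans hwr
    have hprop : IsProper (sec G β) := inferInstance
    rw [IsProper.eq_valuativeCriterion] at hprop
    let T' : ValuativeCommSq (sec G β) :=
      { R := T.R, K := T.K, i₁ := (w' ≫ snd G (Yx x A')).left, i₂ := D, commSq := ⟨hsq⟩ }
    obtain ⟨⟨e, he1, he2⟩⟩ := (hprop.1.1.1.existence T').exists_lift
    change κ ≫ e = _ at he1
    change e ≫ sec G β = D at he2
    have her : e ≫ st A' (Rx x A') = r := by rw [← sec_snd G β, ← Category.assoc, he2, hD2]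
    let E : XR ⟶ Yx x A' := Over.homMk e (by
      change e ≫ st A (Rx x A') = r ≫ st A A'
      rw [← st_comp A A' (Rx x A'), ← Category.assoc, her])
    have hE : E ≫ β = M₁⁻¹ * M₂ := by
      ext1
      change e ≫ β.left = _
      rw [← hD1, ← he2, Category.assoc, sec_fst]
    let W : XR ⟶ G ⊗ Yx x A' := lift (M₁ * (E ≫ b i)) E
    have hW1 : W ≫ tw G (b i) = M₁ := by
      rw [lift_tw, _root_.mul_inv_cancel_right]
    have hW2 : W ≫ tw G (b i') = M₂ := by
      rw [lift_tw, _root_.mul_assoc, ← GrpObj.comp_inv, ← MonObj.comp_mul]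
      change M₁ * (E ≫ β) = M₂
      rw [hE, _root_.mul_inv_cancel_left]
    have hWs : W.left ≫ (snd G (Yx x A')).left = e := by
      rw [← Over.comp_left, lift_snd]
      rfl
    have hWv1 : W.left ≫ (vm G (b i)).left = m₁ := by
      apply pullback.hom_ext
      · rw [Category.assoc, vm_fst, ← Over.comp_left, hW1]
        rfl
      · rw [Category.assoc, vm_snd, reassoc_of% hWs, her]
        exact s₁.symm
    have hWv2 : W.left ≫ (vm G (b i')).left = m₂ := by
      apply pullback.hom_ext
      · rw [Category.assoc, vm_fst, ← Over.comp_left, hW2]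
        rfl
      · rw [Category.assoc, vm_snd, reassoc_of% hWs, her]
        exact s₂.symm
    rw [← e₁, ← e₂, ← hWv1, ← hWv2, Category.assoc, Category.assoc, hvφ, hvφ]

end Glued

end Groth.Agent.Neron.K446.Local
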