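import Groth.Agent.Neron.K446.Local
import Groth.Agent.Sga4h.EtLim
import Groth.Agent.Ega43.LimitDescend

/-!
# Spreading out points over `R[1/x]`, `R` an ind-étale `A`-algebra
-/

set_option autoImplicit false
set_option backward.isDefEq.respectTransparency false
universe u

open CategoryTheory CategoryTheory.Limits AlgebraicGeometry Opposite

namespace Groth.Agent.Neron.K446.Local

open Groth.Agent.Sga67.TorsionLift (sp spMap spMap_comp)
open Groth.Agent.Ega43.LimitDescend

/-- `Spec R[1/x] = Spec A[1/x] ×_A Spec R`. -/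
theorem isPullback_Rx {A : Type u} [CommRing A] (x : A) (R : Type u) [CommRing R] [Algebra A R] :
    ∃ q : Spec (CommRingCat.of (Rx x R)) ⟶ Spec (CommRingCat.of (Localization.Away x)),
      IsPullback q (st R (Rx x R)) (st A (Localization.Away x)) (st A R) := by
  let l : Localization.Away x →+* Rx x R := IsLocalization.Away.map (Localization.Away x) (Rx x R)
    (algebraMap A R) x
  have hl : l.comp (algebraMap A (Localization.Away x)) = (algebraMap R (Rx x R)).comp (algebraMap A R) :=
    IsLocalization.map_comp _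
  have hloc : IsLocalization ((Submonoid.powers x).map (algebraMap A R)) (Rx x R) := by
    rw [Submonoid.map_powers]
    exact inferInstanceAs (IsLocalization (Submonoid.powers (algebraMap A R x)) (Rx x R))
  have h1 := CommRingCat.isPushout_of_isLocalization (algebraMap A R) l hl (Submonoid.powers x)
  exact ⟨Spec.map (CommRingCat.ofHom l), (isPullback_SpecMap_of_isPushout _ _ _ _ h1).flip⟩

theorem exists_spread {A : Type u} [CommRing A] (x : A) (G : Over (Spec (CommRingCat.of A)))
    [LocallyOfFinitePresentation G.hom] (R : Type u) [CommRing R] [Algebra A R]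
    (hR : EtPBC.IsIndEtale A R) {I : Type u} [Finite I] (c : I → (sp A (Rx x R) ⟶ G)) :
    ∃ (A' : Type u) (_ : CommRing A') (_ : Algebra A A') (_ : Algebra.Etale A A') (χ : A' →ₐ[A] R)
      (b : I → (sp A (Rx x A') ⟶ G)), ∀ i, spMap (locx x χ) ≫ b i = c i := by
  obtain ⟨ι, _, _, _, D, π, hc, hD1, hD2, hD3⟩ :=
    Groth.Agent.Sga4h.EtLim.isEtLim_of_isIndEtale hR (𝟙 (Spec (CommRingCat.of A)))
  let E : ιᵒᵖ ⥤ Scheme.{u} := D ⋙ Over.forget _
  let cE : Cone E := Cone.mk (Spec (CommRingCat.of R)) π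
  let t : ∀ j, E.obj j ⟶ Spec (CommRingCat.of A) := fun j => (D.obj j).hom
  have ht : ∀ {i j : ιᵒᵖ} (φ : i ⟶ j), E.map φ ≫ t j = t i := fun φ => Over.w (D.map φ)
  have hp : ∀ j, cE.π.app j ≫ t j = st A R := fun j => (hD3 j).trans (Category.comp_id _)
  obtain ⟨q, hX⟩ := isPullback_Rx x R
  have hq : q ≫ st A (Localization.Away x) = st A (Rx x R) := by
    rw [hX.w, st_comp]
  let f₀ : Spec (CommRingCat.of (Localization.Away x)) ⟶ Spec (CommRingCat.of A) := st A (Localization.Away x)
  let F : ιᵒᵖ ⥤ Scheme.{u} := pbDiagram t ht f₀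
  let cF : Cone F := pbCone t ht f₀ cE (st A R) hp q (st R (Rx x R)) hX
  have hl : IsLimit cF := isLimitPbCone t ht (st A (Localization.Away x)) cE (st A R) hp q (st R (Rx x R)) hX hc
  have haff : ∀ j, IsAffine (E.obj j) := hD2
  have haffhom : ∀ {i j : ιᵒᵖ} (φ : i ⟶ j), IsAffineHom (E.map φ) := fun {i j} φ => inferInstance
  let v : ∀ j, F.obj j ⟶ Spec (CommRingCat.of A) := fun j => pullback.fst f₀ (t j) ≫ f₀
  have hv : ∀ {i j : ιᵒᵖ} (φ : i ⟶ j), F.map φ ≫ v j = v i := fun φ =>
    congr($(pbDiagram_map_fst t ht f₀ φ) ≫ f₀)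
  have hcv : ∀ j, cF.π.app j ≫ v j = st A (Rx x R) := fun j => by
    rw [← hq]
    exact congr($(pbCone_π_fst t ht f₀ cE (st A R) hp q (st R (Rx x R)) hX j) ≫ f₀)
  have i1 : ∀ {i j : ιᵒᵖ} (φ : i ⟶ j), IsAffineHom (F.map φ) := fun {i j} φ =>
    isAffineHom_pbDiagram_map t ht f₀ φ
  have i2 : ∀ j, CompactSpace (F.obj j) := fun j => compactSpace_pbDiagram_obj t ht f₀ j
  have i3 : ∀ j, QuasiSeparatedSpace (F.obj j) := fun j => quasiSeparatedSpace_pbDiagram_obj t ht f₀ j
  have key : ∀ i : I, ∃ (j : ιᵒᵖ) (g : F.obj j ⟶ G.left), cF.π.app j ≫ g = (c i).left ∧ g ≫ G.hom = v j := by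
    intro i
    exact Scheme.exists_π_app_comp_eq_of_locallyOfFinitePresentation F (toConst v hv) G.hom cF hl (c i).left (by
        apply NatTrans.ext
        funext k
        change cF.π.app k ≫ v k = (c i).left ≫ G.hom
        rw [hcv]
        exact (Over.w (c i)).symm)
  choose j g hg1 hg2 using key
  obtain ⟨k, hk⟩ := Finite.exists_le fun i => (j i).unop
  let φ : ∀ i, op k ⟶ j i := fun i => (homOfLE (hk i)).op
  let Y : Scheme.{u} := E.obj (op k)
  have hYaff : IsAffine Y := haff _
  let A' : CommRingCat.{u} := Γ(Y, ⊤)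
  let s : Spec A' ⟶ Spec (CommRingCat.of A) := Y.isoSpec.inv ≫ t (op k)
  let ψ : CommRingCat.of A ⟶ A' := Spec.preimage s
  have hψ : Spec.map ψ = s := Spec.map_preimage s
  let algA' : Algebra A A' := ψ.hom.toAlgebra
  have hst : st A A' = s := hψ
  have hetale : Algebra.Etale A A' := by
    have h1 : Etale (t (op k)) := hD1 _
    have h2 : Etale (Spec.map ψ) := by
      rw [hψ]
      infer_instance
    have h3 := (HasRingHomProperty.Spec_iff (P := @Etale)).mp h2
    exact (RingHom.etale_algebraMap (R := A) (S := A')).1 h3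
  let r : Spec (CommRingCat.of R) ⟶ Spec A' := cE.π.app (op k) ≫ Y.isoSpec.hom
  let χ' : A' ⟶ CommRingCat.of R := Spec.preimage r
  have hχ' : Spec.map χ' = r := Spec.map_preimage r
  have hχc : ψ ≫ χ' = CommRingCat.ofHom (algebraMap A R) := by
    apply Spec.map_injective
    rw [Spec.map_comp, hψ, hχ']
    change (cE.π.app (op k) ≫ Y.isoSpec.hom) ≫ Y.isoSpec.inv ≫ t (op k) = _
    rw [Category.assoc, Iso.hom_inv_id_assoc]
    exact hp _
  let χ : A' →ₐ[A] R := { χ'.hom with commutes' := fun a => congr($hχc a) }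
  obtain ⟨q', hX'⟩ := isPullback_Rx x A'
  have hq' : q' ≫ st A (Localization.Away x) = st A (Rx x A') := by
    rw [hX'.w, st_comp]
  let m : Spec (CommRingCat.of (Rx x A')) ⟶ F.obj (op k) :=
    pullback.lift q' (st A' (Rx x A') ≫ Y.isoSpec.inv) (by
      change q' ≫ st A (Localization.Away x) = _
      rw [hX'.w, hst, Category.assoc])
  have hm1 : m ≫ v (op k) = st A (Rx x A') := by
    rw [← hq']
    exact pullback.lift_fst_assoc _ _ _ _
  have hmono : Mono f₀ := by
    have : IsOpenImmersion f₀ := IsOpenImmersion.of_isLocalization x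
    infer_instance
  have hm2 : Spec.map (CommRingCat.ofHom (locx x χ).toRingHom) ≫ m = cF.π.app (op k) := by
    apply pullback.hom_ext
    · change _ = pullback.lift q (st R (Rx x R) ≫ cE.π.app (op k)) _ ≫ _
      rw [Category.assoc, pullback.lift_fst, pullback.lift_fst]
      rw [← cancel_mono f₀, Category.assoc]
      change _ ≫ q' ≫ st A (Localization.Away x) = q ≫ st A (Localization.Away x)
      rw [hq', hq, ← Spec.map_comp, ← CommRingCat.ofHom_comp]
      congr 2
      exact (locx x χ).comp_algebraMap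
    · change _ = pullback.lift q (st R (Rx x R) ≫ cE.π.app (op k)) _ ≫ _
      rw [Category.assoc, pullback.lift_snd, pullback.lift_snd]
      have h5 : Spec.map (CommRingCat.ofHom (locx x χ).toRingHom) ≫ st A' (Rx x A') =
          st R (Rx x R) ≫ Spec.map χ' := by
        rw [← Spec.map_comp, ← Spec.map_comp, ← CommRingCat.ofHom_comp]
        congr 1
        ext a
        exact locx_algebraMap x χ a
      rw [← Category.assoc, h5, Category.assoc, hχ']
      change st R (Rx x R) ≫ (cE.π.app (op k) ≫ Y.isoSpec.hom) ≫ Y.isoSpec.inv = _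
      rw [Category.assoc, Iso.hom_inv_id, Category.comp_id]
  let b : I → (sp A (Rx x A') ⟶ G) := fun i => Over.homMk (m ≫ F.map (φ i) ≫ g i) (by
      rw [Category.assoc, Category.assoc]
      change m ≫ F.map (φ i) ≫ g i ≫ G.hom = _
      rw [hg2, hv, hm1]
      rfl)
  refine ⟨A', inferInstance, algA', hetale, χ, b, fun i => ?_⟩
  ext1
  rw [Over.comp_left, ← hg1]
  change Spec.map (CommRingCat.ofHom (locx x χ).toRingHom) ≫ m ≫ F.map (φ i) ≫ g i = _
  rw [← cF.w (φ i), ← hm2]
  simp only [Category.assoc]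

end Groth.Agent.Neron.K446.Local
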