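import Groth.Agent.Neron.K446.Pair
import Groth.Agent.Neron.K446.Spread
import Groth.Agent.Etbc.H193.PbkLocal
import Groth.Agent.S0064
import Groth.Agent.S0734
import Groth.Agent.Hensel.Lazard

/-!
# Étale neighbourhoods carrying all components

For `A` regular, `x` the equation of a regular divisor and `q` a point of the divisor there are an étale
neighbourhood `A'` of `q` and finitely many torsion points `b i ∈ G(A'[1/x])` which represent
`G(R[1/x])` modulo `G(R)` for all strictly henselian regular local flat `A'`-algebras `R` in which `x` is a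
member of a regular system of parameters.
-/

set_option autoImplicit false
universe u

open IsLocalRing CategoryTheory CategoryTheory.Limits AlgebraicGeometry MonObj
open MonoidalCategory CartesianMonoidalCategory

namespace Groth.Agent.Neron.K446.Local

open Groth.Agent.Sga67.TorsionLift (sp spMap spMap_comp)
open Groth.Agent.Sga7.H729.Dict (compHom)

section

variable {A : Type u} [CommRing A] {x : A} {G : Over (Spec (CommRingCat.of A))} [GrpObj G]

/-- Torsion points over a noetherian ring are finite in number. -/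
theorem SA.finite_torsion [IsCommMonObj G] [Smooth G.hom] [IsSeparated G.hom] [QuasiCompact G.hom]
    [IsNoetherianRing A] (hG : SA x G) (T : Type u) [CommRing T] [IsNoetherianRing T] [Algebra A T] (m : ℕ)
    (hm : 0 < m) : {ε : sp A T ⟶ G | ε ^ m = 1}.Finite := by
  have h1 : Etale (𝟙 G ^ m).left := hG.etale_pow m hm
  have hw : (𝟙 G ^ m).left ≫ G.hom = G.hom := Over.w _
  have h2 : IsSeparated (𝟙 G ^ m).left := by
    have : IsSeparated ((𝟙 G ^ m).left ≫ G.hom) := by rw [hw]; infer_instance
    exact IsSeparated.of_comp (𝟙 G ^ m).left G.hom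
  have h3 : QuasiCompact (𝟙 G ^ m).left := by
    have : QuasiCompact ((𝟙 G ^ m).left ≫ G.hom) := by rw [hw]; infer_instance
    exact QuasiCompact.of_comp (𝟙 G ^ m).left G.hom
  have h4 : IsNoetherian G.left := by
    have : IsLocallyNoetherian G.left := LocallyOfFiniteType.isLocallyNoetherian G.hom
    have : CompactSpace G.left := QuasiCompact.compactSpace_of_compactSpace G.hom
    exact { }
  have h6 : IsNoetherian (sp A T).left := inferInstanceAs (IsNoetherian (Spec (CommRingCat.of T)))
  have h5 := Groth.Agent.S0064.result (𝟙 G ^ m).left (1 : sp A T ⟶ G).left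
  refine Set.Finite.of_finite_image (f := fun ε : sp A T ⟶ G => ε.left) (h5.subset ?_) ?_
  · rintro _ ⟨ε, hε, rfl⟩
    change ε.left ≫ (𝟙 G ^ m).left = (1 : sp A T ⟶ G).left
    rw [← Over.comp_left, MonObj.comp_pow, Category.comp_id]
    exact congrArg (fun z => z.left) hε
  · intro a _ b _ hab
    exact Over.OverMorphism.ext hab

/-- Injectivity of restriction of points. -/
theorem resH_injective [IsSeparated G.hom] {R R' : Type u} [CommRing R] [CommRing R'] [Algebra A R] [Algebra A R']
    [IsDomain R] (φ : R →ₐ[A] R') (hφ : Function.Injective φ) :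
    Function.Injective (resH x G φ) := by
  intro c d h
  have h0 : Function.Injective (locx x φ) := by
    let P := Submonoid.powers (algebraMap A R x)
    have hP : P.map (φ : R →+* R') = Submonoid.powers (algebraMap A R' x) := by
      rw [Submonoid.map_powers]
      congr 1
      exact φ.commutes x
    have hloc : IsLocalization (P.map (φ : R →+* R')) (Rx x R') := by
      rw [hP]
      exact inferInstanceAs (IsLocalization (Submonoid.powers (algebraMap A R' x)) (Rx x R'))
    have h1 := IsLocalization.map_injective_of_injective P (Rx x R) (Rx x R') (g := (φ : R →+* R')) hφ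
    have h2 : (IsLocalization.map (Rx x R') (φ : R →+* R') P.le_comap_map : Rx x R →+* Rx x R') =
        (locx x φ : Rx x R →+* Rx x R') := by
      refine IsLocalization.ringHom_ext P (RingHom.ext fun a => ?_)
      rw [RingHom.comp_apply, RingHom.comp_apply, IsLocalization.map_eq]
      exact (locx_algebraMap x φ a).symm
    rw [h2] at h1
    exact h1
  have hred : _root_.IsReduced (Rx x R) := inferInstance
  have hred' : IsReduced (sp A (Rx x R)).left := inferInstanceAs (IsReduced (Spec (CommRingCat.of (Rx x R))))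
  have hdom : IsDominant (Spec.map (CommRingCat.ofHom (locx x φ : Rx x R →+* Rx x R'))) := by
    refine ⟨?_⟩
    exact (PrimeSpectrum.denseRange_comap_iff_ker_le_nilRadical _).mpr (by
      intro a ha
      have h3 : a = 0 := h0 (by rw [map_zero]; exact ha)
      rw [h3]
      exact Ideal.zero_mem _)
  ext1
  exact ext_of_isDominant_of_isSeparated G.hom ((Over.w c).trans (Over.w d).symm)
    (Spec.map (CommRingCat.ofHom (locx x φ : Rx x R →+* Rx x R'))) (congrArg (fun z => z.left) h)

end

/-- The conclusion of the local theory. -/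
structure GoodReps {A : Type u} [CommRing A] (x : A) (G : Over (Spec (CommRingCat.of A))) [GrpObj G]
    (A' : Type u) [CommRing A'] [Algebra A A'] {I : Type u} (b : I → (sp A (Rx x A') ⟶ G)) (m : ℕ) : Prop where
  pos : 0 < m
  pow : ∀ i, b i ^ m = 1
  reps : ∀ (R : Type u) [CommRing R] [Algebra A' R] [Algebra A R] [IsScalarTower A A' R]
    [Module.Flat A' R] [IsRegularLocalRing R] [HenselianLocalRing R] [IsSepClosed (ResidueField R)],
    Par x R → Reps x G R b

variable {A : Type u} [CommRing A] {x : A} {G : Over (Spec (CommRingCat.of A))} [GrpObj G]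

theorem SA.exists_nbhd_aux [IsCommMonObj G] [Smooth G.hom] [IsSeparated G.hom] [QuasiCompact G.hom]
    (hE : DivExt.{u}) (hP : PowExt.{u}) (hG : SA x G) (hA : RegPair A x) (R : Type u) [CommRing R]
    [IsRegularLocalRing R] [HenselianLocalRing R] [IsSepClosed (ResidueField R)] [Algebra A R]
    (hR : Par x R) (hind : EtPBC.IsIndEtale A R) :
    ∃ (A' : Type u) (_ : CommRing A') (_ : Algebra A A') (_ : Algebra.Etale A A') (χ : A' →ₐ[A] R),
      IsDomain A' ∧ (Ideal.span {algebraMap A A' x}).IsPrime ∧ ∃ (I : Type u) (_ : Finite I) (_ : Nonempty I)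
      (m : ℕ) (b : I → (sp A (Rx x A') ⟶ G)), GoodReps x G A' b m := by
  have hAn : IsRegularRing A := hA.reg
  have hcR : CharZero (ResidueField R) := charZero_residueField_of_units hG.units (algebraMap A R)
  obtain ⟨V, _, _, _, _, _, φ, hφ, hmV, hcomap⟩ :=
    HensDvr.exists_strict_dvr R (algebraMap A R x) hR.mem hR.notMem
  let algV : Algebra A V := (φ.comp (algebraMap A R)).toAlgebra
  let φ' : R →ₐ[A] V := { φ with commutes' := fun _ => rfl }
  have hmV' : maximalIdeal V = Ideal.span {algebraMap A V x} := hmV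
  have hcV : CharZero (ResidueField V) := charZero_residueField_of_units hG.units (algebraMap A V)
  have hVpar : Par x V := par_of_max x V hmV'
  obtain ⟨m, hm, hdec⟩ := hG.exists_decomp hP V hmV'
  -- the index set
  let I : Type u := (sp A (Rx x V) ⟶ G) ⧸ ext x G V
  have hIne : Nonempty I := ⟨((1 : sp A (Rx x V) ⟶ G) : I)⟩
  have hex : ∀ i : I, ∃ ε : sp A (Rx x V) ⟶ G, ε ^ m = 1 ∧ (ε : I) = i := by
    intro i
    obtain ⟨c, rfl⟩ := QuotientGroup.mk_surjective i
    obtain ⟨ε, hε, δ, hδ, rfl⟩ := hdec c
    refine ⟨ε, hε, ?_⟩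
    rw [QuotientGroup.eq]
    rwa [_root_.inv_mul_cancel_left]
  choose ε hε1 hε2 using hex
  have hVn : IsNoetherianRing (Rx x V) := IsLocalization.isNoetherianRing (Submonoid.powers (algebraMap A V x)) _ inferInstance
  have hIfin : Finite I := by
    have h1 := (hG.finite_torsion (Rx x V) m hm).to_subtype
    exact Finite.of_injective (fun i : I => (⟨ε i, hε1 i⟩ : {ε : sp A (Rx x V) ⟶ G | ε ^ m = 1})) (by
      intro i j hij
      have h2 : ε i = ε j := congrArg Subtype.val hij
      rw [← hε2 i, ← hε2 j, h2])
  -- descend to `R`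
  have hex2 : ∀ i : I, ∃ c : sp A (Rx x R) ⟶ G, c ^ m = 1 ∧ spMap (locx x φ') ≫ c = ε i := fun i =>
    hG.exists_torsion_descend φ' hR hVpar m hm (ε i) (hε1 i)
  choose c hc1 hc2 using hex2
  -- descend to an étale algebra
  obtain ⟨A₁, _, _, _, χ₁, b₁, hb₁⟩ := exists_spread x G R hind c
  let q₁ : Ideal A₁ := (maximalIdeal R).comap χ₁
  have hq₁ : q₁.IsPrime := Ideal.IsPrime.comap _
  have hxq₁ : algebraMap A A₁ x ∈ q₁ := by
    change χ₁ (algebraMap A A₁ x) ∈ maximalIdeal R
    rw [χ₁.commutes]
    exact hR.mem
  have hA₁ := hA.of_smooth A₁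
  obtain ⟨f, hf, Hf⟩ := hA₁.exists_prime q₁ hxq₁
  let A' := Localization.Away f
  have hAf : IsDomain A' ∧ (Ideal.span {algebraMap A₁ A' (algebraMap A A₁ x)}).IsPrime := Hf A'
  have htow : algebraMap A₁ A' (algebraMap A A₁ x) = algebraMap A A' x :=
    (IsScalarTower.algebraMap_apply A A₁ A' x).symm
  rw [htow] at hAf
  obtain ⟨hdom, hprx⟩ := hAf
  have het1 : Algebra.Etale A₁ A' := Algebra.Etale.of_isLocalizationAway f
  have het : Algebra.Etale A A' := Algebra.Etale.comp A A₁ A'
  have hfu : IsUnit (χ₁ f) := by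
    by_contra h
    exact hf ((mem_maximalIdeal _).mpr h)
  let χr : A' →+* R := IsLocalization.Away.lift (S := A') (g := (χ₁ : A₁ →+* R)) f hfu
  have hχr : ∀ a, χr (algebraMap A₁ A' a) = χ₁ a := fun a => IsLocalization.Away.lift_eq f hfu a
  have hχrA : ∀ a : A, χr (algebraMap A A' a) = algebraMap A R a := fun a => by
    rw [IsScalarTower.algebraMap_apply A A₁ A', hχr, χ₁.commutes]
  let χ : A' →ₐ[A] R := { χr with commutes' := hχrA }
  let ℓ : A₁ →ₐ[A] A' := IsScalarTower.toAlgHom A A₁ A'
  have hχℓ : χ.comp ℓ = χ₁ := AlgHom.ext hχr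
  let b : I → (sp A (Rx x A') ⟶ G) := fun i => spMap (locx x ℓ) ≫ b₁ i
  have hb : ∀ i, spMap (locx x χ) ≫ b i = c i := by
    intro i
    change spMap (locx x χ) ≫ spMap (locx x ℓ) ≫ b₁ i = c i
    rw [← Category.assoc, spMap_comp, locx_comp, hχℓ, hb₁]
  -- flatness and injectivity
  have hlaz : Groth.Agent.Hensel.Lazard.Laz A R := by
    intro P _ _ _ g
    obtain ⟨W, _, _, u, v, hW, h⟩ :=
      (Groth.Agent.Proet.IndEtale.isIndEtale_iff_factor A R).mp hind P inferInstance g
    exact ⟨W, inferInstance, inferInstance, hW, u, v, h⟩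
  have hflat : χ.toRingHom.Flat := hlaz.flat_of_etale χ
  let algR : Algebra A' R := χ.toRingHom.toAlgebra
  have hflat' : Module.Flat A' R := hflat
  have htowR : IsScalarTower A A' R := IsScalarTower.of_algebraMap_eq fun a => (χ.commutes a).symm
  have hinjR : Function.Injective χ := by
    have : Nontrivial R := inferInstance
    have : IsDomain R := Groth.Agent.CalgA.RegBasic.isDomain R
    have : FaithfulSMul A' R := inferInstance
    exact FaithfulSMul.algebraMap_injective A' R
  have hbm : ∀ i, b i ^ m = 1 := by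
    intro i
    apply resH_injective (x := x) (G := G) χ hinjR
    rw [map_pow, map_one]
    change (spMap (locx x χ) ≫ b i) ^ m = 1
    rw [hb, hc1]
  -- the discrete valuation ring along `x`
  have hxn0 : algebraMap A A' x ≠ 0 := by
    intro h
    have h1 : algebraMap A R x = 0 := by rw [← χ.commutes, h, map_zero]
    exact hR.notMem (h1 ▸ Ideal.zero_mem _)
  have hA'n : IsNoetherianRing A' := by
    have := (hA.of_smooth A').reg
    infer_instance
  obtain ⟨V₀, _, _, _, _, _, algV₀', hV₀⟩ := exists_along A' (algebraMap A A' x) hxn0 hprx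
  let algV₀ : Algebra A V₀ := ((algebraMap A' V₀).comp (algebraMap A A')).toAlgebra
  have htowV₀ : IsScalarTower A A' V₀ := IsScalarTower.of_algebraMap_eq fun _ => rfl
  have hcV₀ : CharZero (ResidueField V₀) := charZero_residueField_of_units hG.units (algebraMap A V₀)
  have hV₀max : maximalIdeal V₀ = Ideal.span {algebraMap A V₀ x} := by
    rw [hV₀.max, ← IsScalarTower.algebraMap_apply A A' V₀]
  have hV₀par : Par x V₀ := par_of_max x V₀ hV₀max
  let algV' : Algebra A' V := (φ.comp (algebraMap A' R)).toAlgebra
  have htowV : IsScalarTower A A' V := IsScalarTower.of_algebraMap_eq fun a => by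
    change φ (algebraMap A R a) = φ (algebraMap A' R (algebraMap A A' a))
    rw [← IsScalarTower.algebraMap_apply A A' R]
  have hc1' : (maximalIdeal V).comap (algebraMap A' V) = Ideal.span {algebraMap A A' x} := by
    have h1 : (maximalIdeal V).comap (algebraMap A' V) =
        ((maximalIdeal V).comap φ).comap (algebraMap A' R) := (Ideal.comap_comap _ _).symm
    rw [h1, hcomap]
    have h2 : algebraMap A R x = algebraMap A' R (algebraMap A A' x) := IsScalarTower.algebraMap_apply A A' R x
    rw [h2]
    refine HensDvr.comap_span (algebraMap A' R) hflat _ hprx ?_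
    rw [← h2]
    exact hR.mem
  obtain ⟨g⟩ := hV₀.lift V hc1'
  have hres : ∀ i, res x G A' V (b i) = ε i := by
    intro i
    rw [← hc2, ← hb]
    rw [← Category.assoc, spMap_comp, locx_comp]
    rfl
  have hreps : Reps x G V₀ b := by
    constructor
    · intro d
      let i : I := ((resH x G (g.restrictScalars A) d : sp A (Rx x V) ⟶ G) : I)
      refine ⟨i, hG.mem_ext_of_map hE (g.restrictScalars A) hV₀par hVpar _ ?_⟩
      change resH x G (g.restrictScalars A) _ ∈ ext x G V
      rw [map_mul, map_inv, resH_res, hres]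
      have h3 : ((ε i : sp A (Rx x V) ⟶ G) : I) = ((resH x G (g.restrictScalars A) d : sp A (Rx x V) ⟶ G) : I) :=
        hε2 i
      rw [QuotientGroup.eq] at h3
      rwa [_root_.mul_comm]
    · intro i j hij
      have h1 : resH x G (g.restrictScalars A) (res x G A' V₀ (b i) * (res x G A' V₀ (b j))⁻¹) ∈ ext x G V :=
        map_mem_ext (g.restrictScalars A) hij
      rw [map_mul, map_inv, resH_res, resH_res, hres, hres] at h1
      rw [← hε2 i, ← hε2 j, eq_comm, QuotientGroup.eq, _root_.mul_comm]
      exact h1
  refine ⟨A', inferInstance, inferInstance, het, χ, hdom, hprx, I, hIfin, hIne, m, b, ⟨hm, hbm, ?_⟩⟩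
  intro R' _ _ _ _ _ _ _ _ hR'
  exact hG.reps_local hE hP hprx V₀ hV₀ b hreps R' hR'

end Groth.Agent.Neron.K446.Local
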