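import Groth.Agent.Neron.K446.Closed
import Groth.Agent.Neron.K486.FlatDesc

/-!
# The Néron mapping property of the glued model
-/

set_option autoImplicit false
universe u

open IsLocalRing CategoryTheory CategoryTheory.Limits AlgebraicGeometry MonObj
open MonoidalCategory CartesianMonoidalCategory

namespace Groth.Agent.Neron.K446.Local

open Groth.Agent.Sga67.TorsionLift (sp spMap spMap_comp)
open K486.NMP

variable {A : Type u} [CommRing A] {x : A} {G : Over (Spec (CommRingCat.of A))} [GrpObj G]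
  {A' : Type u} [CommRing A'] [Algebra A A'] {I : Type u} {b : I → (Yx x A' ⟶ G)}
  {N : Over (Spec (CommRingCat.of A'))} {φ : I → (PS G A' ⟶ N)} {j : WS x G A' ⟶ N}

/-- The extension of a morphism to a strictly henselian local ring. -/
theorem Glued.exists_strict_ext [IsCommMonObj G] [Nonempty I] (h : Glued G b N φ j)
    (R : Type u) [CommRing R] [Algebra A' R] [Algebra A R] [IsScalarTower A A' R]
    (hreps : Reps x G R b) (f : Spec (CommRingCat.of (Rx x R)) ⟶ N.left)
    (hf : f ≫ N.hom = st R (Rx x R) ≫ st A' R) :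
    ∃ g : Spec (CommRingCat.of R) ⟶ N.left, g ≫ N.hom = st A' R ∧ st R (Rx x R) ≫ g = f := by
  let L : Rx x A' →ₐ[A] Rx x R := locx x (IsScalarTower.toAlgHom A A' R)
  let ℓ : Spec (CommRingCat.of (Rx x R)) ⟶ Spec (CommRingCat.of (Rx x A')) :=
    Spec.map (CommRingCat.ofHom L.toRingHom)
  have hℓ : ℓ ≫ st A' (Rx x A') = st R (Rx x R) ≫ st A' R := by
    rw [← Spec.map_comp, ← Spec.map_comp, ← CommRingCat.ofHom_comp, ← CommRingCat.ofHom_comp]
    congr 2
    ext a
    exact locx_algebraMap x (IsScalarTower.toAlgHom A A' R) a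
  have hpb := h.isPullback_j
  let w : Spec (CommRingCat.of (Rx x R)) ⟶ (G ⊗ Yx x A').left := hpb.lift f ℓ (by rw [hf, hℓ])
  have hw1 : w ≫ j.left = f := hpb.lift_fst _ _ _
  have hw2 : w ≫ (snd G (Yx x A')).left = ℓ := hpb.lift_snd _ _ _
  let w' : sp A (Rx x R) ⟶ G ⊗ Yx x A' := Over.homMk w (by
    rw [← Over.w (snd G (Yx x A')), ← Category.assoc, hw2]
    exact Over.w (spMap L))
  have hw's : w' ≫ snd G (Yx x A') = spMap L := by
    ext1
    exact hw2
  let c : sp A (Rx x R) ⟶ G := w' ≫ fst G (Yx x A')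
  obtain ⟨i, c', hc'⟩ := hreps.ex c
  change rx x R ≫ c' = c * (spMap L ≫ b i)⁻¹ at hc'
  have htw : w' ≫ tw G (b i) = rx x R ≫ c' := by
    rw [comp_tw, hw's, hc']
  let g₀ : Spec (CommRingCat.of R) ⟶ (PS G A').left := pullback.lift c'.left (st A' R) (by
    rw [Over.w, st_comp]
    rfl)
  have hg₀1 : g₀ ≫ pullback.fst G.hom (st A A') = c'.left := pullback.lift_fst _ _ _
  have hg₀2 : g₀ ≫ pullback.snd G.hom (st A A') = st A' R := pullback.lift_snd _ _ _
  have key : st R (Rx x R) ≫ g₀ = w ≫ (vm G (b i)).left := by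
    apply pullback.hom_ext
    · rw [Category.assoc, Category.assoc, hg₀1, vm_fst]
      exact (congrArg (fun z => z.left) htw).symm
    · rw [Category.assoc, Category.assoc, hg₀2, vm_snd, ← Category.assoc, hw2, hℓ]
  refine ⟨g₀ ≫ (φ i).left, ?_, ?_⟩
  · rw [Category.assoc, Over.w]
    exact hg₀2
  · rw [← Category.assoc, key, Category.assoc, ← Over.comp_left, h.comm, hw1]

/-- Extensions exist locally. -/
theorem Glued.exists_nhd_ext [IsCommMonObj G] [Smooth G.hom] [Nonempty I] (h : Glued G b N φ j)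
    (hA : RegPair A x) [Algebra.Etale A A'] {m : ℕ} (hgood : GoodReps x G A' b m) [IsSeparated N.hom]
    (U : (Spec (CommRingCat.of A')).Opens) (hU : (U : Set (Spec (CommRingCat.of A'))) = Set.range (st A' (Rx x A')))
    (hUd : CInt.IsSchematicallyDense U) {Y : Scheme.{u}} (p : Y ⟶ Spec (CommRingCat.of A')) [Smooth p]
    (f : (p ⁻¹ᵁ U).toScheme ⟶ N.left) (hf : f ≫ N.hom = (p ⁻¹ᵁ U).ι ≫ p) (y : Y) :
    ∃ (V : Scheme.{u}) (v : V ⟶ Y) (_ : IsOpenImmersion v), y ∈ Set.range v ∧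
      ∃ g : V ⟶ N.left, g ≫ N.hom = v ≫ p ∧ ((v ≫ p) ⁻¹ᵁ U).ι ≫ g = K486.NMP.res U v rfl ≫ f := by
  have hNA : IsNoetherianRing A' := by
    have := (hA.of_smooth A').reg
    infer_instance
  have hsmN := h.smooth
  by_cases hy : y ∈ p ⁻¹ᵁ U
  · refine ⟨(p ⁻¹ᵁ U).toScheme, (p ⁻¹ᵁ U).ι, inferInstance, ?_, f, hf, ?_⟩
    · rw [Scheme.Opens.range_ι]
      exact hy
    · have h1 : (((p ⁻¹ᵁ U).ι ≫ p) ⁻¹ᵁ U).ι = K486.NMP.res U (p ⁻¹ᵁ U).ι rfl := by
        rw [← cancel_mono (p ⁻¹ᵁ U).ι, res_ι]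
      exact congr($h1 ≫ f)
  · have hy' : algebraMap A A' x ∈ (show PrimeSpectrum A' from p y).asIdeal := by
      by_contra h1
      apply hy
      change p y ∈ (U : Set (Spec (CommRingCat.of A')))
      rw [hU, mem_range_st_iff]
      exact h1
    obtain ⟨R, _, _, _, _, _, _, _, _, r, hR, hr1, hr2, hr3⟩ := exists_strict_point hA p y hy'
    have hreps := hgood.reps R hR
    let V : (Spec (CommRingCat.of R)).Opens := (r ≫ p) ⁻¹ᵁ U
    have hV : Set.range (st R (Rx x R)) = Set.range V.ι := by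
      rw [Scheme.Opens.range_ι]
      ext s
      rw [mem_range_st_iff (A' := R)]
      change _ ↔ (r ≫ p) s ∈ (U : Set (Spec (CommRingCat.of A')))
      rw [hU, mem_range_st_iff, hr3]
      change _ ↔ algebraMap A A' x ∉ ((show PrimeSpectrum R from s).asIdeal).comap (algebraMap A' R)
      rw [Ideal.mem_comap, ← IsScalarTower.algebraMap_apply A A' R]
    let θ : Spec (CommRingCat.of (Rx x R)) ≅ V.toScheme := IsOpenImmersion.isoOfRangeEq (st R (Rx x R)) V.ι hV
    have hθ : θ.hom ≫ V.ι = st R (Rx x R) := IsOpenImmersion.isoOfRangeEq_hom_fac _ _ _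
    let fR : Spec (CommRingCat.of (Rx x R)) ⟶ N.left := θ.hom ≫ K486.NMP.res U r rfl ≫ f
    have hfR : fR ≫ N.hom = st R (Rx x R) ≫ st A' R := by
      change (θ.hom ≫ K486.NMP.res U r rfl ≫ f) ≫ N.hom = _
      rw [Category.assoc, Category.assoc, hf, res_ι_assoc, ← hr3, ← hθ, Category.assoc]
    obtain ⟨g', hg1, hg2⟩ := h.exists_strict_ext R hreps fR hfR
    have hg'' : V.ι ≫ g' = K486.NMP.res U r rfl ≫ f := by
      rw [← cancel_epi θ.hom, ← Category.assoc, hθ, hg2]
    obtain ⟨V', v, hv1, hv2, hv3⟩ := exists_nhd U hUd p N.hom r f hf g' (by rw [hg1, hr3]) hg'' (closedPoint R)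
    rw [hr2] at hv2
    exact ⟨V', v, hv1, hv2, hv3⟩

/-- The Néron mapping property. -/
theorem Glued.extU [IsCommMonObj G] [Smooth G.hom] [Nonempty I] (h : Glued G b N φ j)
    (hA : RegPair A x) [Algebra.Etale A A'] {m : ℕ} (hgood : GoodReps x G A' b m) [IsSeparated N.hom]
    (U : (Spec (CommRingCat.of A')).Opens) (hU : (U : Set (Spec (CommRingCat.of A'))) = Set.range (st A' (Rx x A')))
    (hUd : CInt.IsSchematicallyDense U) {Y : Scheme.{u}} (p : Y ⟶ Spec (CommRingCat.of A')) [Smooth p] :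
    ExtU U p N.hom := by
  have hNA : IsNoetherianRing A' := by
    have := (hA.of_smooth A').reg
    infer_instance
  refine (extU_iff _ _ _).2 ⟨uniqU_of_flat U hUd p N.hom, fun f hf => ?_⟩
  choose V v hv hyv g hg1 hg2 using h.exists_nhd_ext hA hgood U hU hUd p f hf
  let 𝒰 : Y.OpenCover := Scheme.Cover.mkOfCovers Y V v (fun y => by
    obtain ⟨z, hz⟩ := hyv y
    exact ⟨y, z, hz⟩) hv
  refine exists_of_cover U p N.hom 𝒰 (fun i k => ?_) f g hg1 hg2
  exact uniqU_of_flat U hUd _ N.hom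

/-- Separatedness. -/
theorem Glued.isSeparated' [IsCommMonObj G] [Smooth G.hom] [IsSeparated G.hom]
    (h : Glued G b N φ j) (hG : SA x G) (hA : RegPair A x) [Algebra.Etale A A'] {m : ℕ}
    (hgood : GoodReps x G A' b m) : IsSeparated N.hom := by
  have hNA : IsNoetherianRing A' := by
    have := (hA.of_smooth A').reg
    infer_instance
  refine h.isSeparated fun i i' hii => ?_
  refine isClosedImmersion_sec G hG hA _ m hgood.pos ?_ ?_
  · rw [mul_pow, inv_pow, hgood.pow, hgood.pow, inv_one, _root_.mul_one]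
  · intro R _ _ _ _ _ _ _ _ hR hmem
    apply hii
    apply (hgood.reps R hR).uniq
    rwa [map_mul, map_inv] at hmem

end Groth.Agent.Neron.K446.Local
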