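import Groth.Agent.Neron.K446.Comp
import Groth.Agent.Ega4A.RegEtale
import Groth.Agent.EGA41.K103.RegQuot
import Groth.Agent.Sga7.H509.StrictPoint
import Groth.Agent.Ega1.LocNoethNhd
import Groth.Agent.CurvesC.RegNormal
import Groth.Agent.S0540
import Groth.Agent.S2743

/-!
# Regular rings with a regular divisor

`RegPair A x`: `A` is a regular ring, `x` a nonzerodivisor and `A/(x)` a regular ring.
-/

set_option autoImplicit false
universe u

open IsLocalRing
open scoped TensorProduct

namespace Groth.Agent.Neron.K446.Local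

/-- `A` is a regular ring and `x` the equation of a regular divisor. -/
structure RegPair (A : Type u) [CommRing A] (x : A) : Prop where
  reg : IsRegularRing A
  regD : IsRegularRing (A ⧸ Ideal.span {x})
  nzd : x ∈ nonZeroDivisors A

theorem nzd_of_flat {A : Type u} [CommRing A] {x : A} (h : x ∈ nonZeroDivisors A) (B : Type u) [CommRing B]
    [Algebra A B] [Module.Flat A B] : algebraMap A B x ∈ nonZeroDivisors B := by
  have h1 : IsSMulRegular B x := Module.Flat.isSMulRegular_of_nonZeroDivisors h
  rw [mem_nonZeroDivisors_iff_right]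
  intro b hb
  apply h1
  change x • b = x • (0 : B)
  rw [smul_zero, Algebra.smul_def, mul_comm, hb]

/-- Localizing further a localization which is a domain. -/
theorem exists_isDomain_away {A : Type u} [CommRing A] [IsNoetherianRing A] (p : Ideal A) [p.IsPrime]
    (hB : IsDomain (Localization.AtPrime p)) :
    ∃ f ∉ p, ∀ g ∉ p, ∀ (C : Type u) [CommRing C] [Algebra A C] [IsLocalization.Away (f * g) C], IsDomain C := by
  let B := Localization.AtPrime p
  obtain ⟨f, hf, hf'⟩ := Groth.Agent.Ega1.LocNoethNhd.exists_notMem_kill p B (RingHom.ker (algebraMap A B))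
    (IsNoetherian.noetherian _) fun a ha => ha
  refine ⟨f, hf, fun g hg C _ _ _ => ?_⟩
  have hfg : f * g ∉ p := fun h => (Ideal.IsPrime.mem_or_mem ‹_› h).elim hf hg
  have hu : IsUnit (algebraMap A B (f * g)) := IsLocalization.map_units B (⟨f * g, hfg⟩ : p.primeCompl)
  let φ : C →+* B := IsLocalization.Away.lift (f * g) hu
  have hφ : ∀ a, φ (algebraMap A C a) = algebraMap A B a := fun a => IsLocalization.Away.lift_eq (f * g) hu a
  have hinj : Function.Injective φ := by
    rw [injective_iff_map_eq_zero]
    intro c hc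
    obtain ⟨⟨a, s⟩, has⟩ := IsLocalization.surj (Submonoid.powers (f * g)) c
    simp only at has
    have h1 : algebraMap A B a = 0 := by
      rw [← hφ, ← has, map_mul, hc, zero_mul]
    have h2 := hf' a h1
    have h4 : algebraMap A C a = 0 := by
      rw [IsLocalization.map_eq_zero_iff (Submonoid.powers (f * g))]
      exact ⟨⟨f * g, 1, by simp⟩, by rw [mul_right_comm, h2, zero_mul]⟩
    rw [h4] at has
    exact ((IsLocalization.map_units C s).mul_left_eq_zero).1 has
  exact hinj.isDomain φ

namespace RegPair

variable {A : Type u} [CommRing A] {x : A}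

theorem of_smooth (h : RegPair A x) (B : Type u) [CommRing B] [Algebra A B] [Algebra.Smooth A B] :
    RegPair B (algebraMap A B x) where
  reg := by
    have := h.reg
    exact Groth.Agent.Ega4A.RegEtale.isRegularRing_of_smooth A B
  regD := by
    have := h.regD
    have h1 : IsRegularRing ((A ⧸ Ideal.span {x}) ⊗[A] B) :=
      Groth.Agent.Ega4A.RegEtale.isRegularRing_of_smooth (A ⧸ Ideal.span {x}) _
    have e : ((A ⧸ Ideal.span {x}) ⊗[A] B) ≃+* (B ⧸ Ideal.map (algebraMap A B) (Ideal.span {x})) :=
      ((Algebra.TensorProduct.comm A (A ⧸ Ideal.span {x}) B).toRingEquiv).trans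
        (Algebra.TensorProduct.quotIdealMapEquivTensorQuot B (Ideal.span {x})).symm.toRingEquiv
    have h2 := IsRegularRing.of_ringEquiv e
    rwa [Ideal.map_span, Set.image_singleton] at h2
  nzd := by
    have := h.reg
    have hflat : Module.Flat A B := Algebra.Smooth.flat_of_isNoetherianRing A B
    exact nzd_of_flat h.nzd B

/-- The local rings at points of the divisor. -/
theorem localization (h : RegPair A x) (q : Ideal A) [q.IsPrime] (hq : x ∈ q) :
    ∃ _ : IsRegularLocalRing (Localization.AtPrime q),
      algebraMap A (Localization.AtPrime q) x ∈ maximalIdeal (Localization.AtPrime q) ∧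
      algebraMap A (Localization.AtPrime q) x ∉ maximalIdeal (Localization.AtPrime q) ^ 2 ∧
      IsRegularLocalRing (Localization.AtPrime q ⧸ Ideal.span {algebraMap A (Localization.AtPrime q) x}) := by
  have h1 := h.reg
  have h2 := h.regD
  have h3 : IsRegularLocalRing (Localization.AtPrime q) := (isRegularRing_iff (R := A)).mp h1 q
  have h4 : algebraMap A (Localization.AtPrime q) x ∈ maximalIdeal (Localization.AtPrime q) :=
    (IsLocalization.AtPrime.to_map_mem_maximal_iff (Localization.AtPrime q) q x).mpr hq
  have h5 := K103.RegQuot.isRegularLocalRing_quotient (Ideal.span {x}) q (by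
    rwa [Ideal.span_singleton_le_iff_mem])
  rw [Ideal.map_span, Set.image_singleton] at h5
  have h6 : IsDomain (Localization.AtPrime q) := Groth.Agent.CurvesC.RegNormal.isDomain _
  have h7 : algebraMap A (Localization.AtPrime q) x ≠ 0 :=
    nonZeroDivisors.ne_zero (nzd_of_flat h.nzd (Localization.AtPrime q))
  exact ⟨h3, h4, Groth.Agent.Sga7.H509.StrictPoint.notMem_sq_of_quotient _ _ h7 h5, h5⟩

/-- Strict henselizations at points of the divisor. -/
theorem par (h : RegPair A x) (q : Ideal A) [q.IsPrime] (hq : x ∈ q) (R : Type u) [CommRing R] [IsLocalRing R]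
    [Algebra (Localization.AtPrime q) R] [IsLocalHom (algebraMap (Localization.AtPrime q) R)]
    [hR : Hensel.IsStrictHenselization (Localization.AtPrime q) R] [Algebra A R]
    [IsScalarTower A (Localization.AtPrime q) R] :
    IsRegularLocalRing R ∧ HenselianLocalRing R ∧ IsSepClosed (ResidueField R) ∧
      algebraMap A R x ∈ maximalIdeal R ∧ algebraMap A R x ∉ maximalIdeal R ^ 2 := by
  obtain ⟨h1, h2, h3, -⟩ := h.localization q hq
  have hN : IsNoetherianRing R := (Groth.Agent.S0540.result (Localization.AtPrime q) R).mp inferInstance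
  have hreg : IsRegularLocalRing R := (Groth.Agent.S2743.result (Localization.AtPrime q) R).mpr h1
  have hhen : HenselianLocalRing R := Hensel.IsStrictHenselization.henselian (Localization.AtPrime q)
  have hsc := hR.isSepClosure
  have hmax := Groth.Agent.S0538.result (Localization.AtPrime q) R
  refine ⟨hreg, hhen, hsc.sep_closed, ?_, ?_⟩
  · rw [IsScalarTower.algebraMap_apply A (Localization.AtPrime q) R, ← hmax]
    exact Ideal.mem_map_of_mem _ h2
  · rw [IsScalarTower.algebraMap_apply A (Localization.AtPrime q) R]
    exact Groth.Agent.Sga7.H509.StrictPoint.notMem_sq_strict _ _ _ h3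

/-- Near a point of the divisor the ring is a domain in which the equation is a prime element. -/
theorem exists_prime (h : RegPair A x) (q : Ideal A) [q.IsPrime] (hq : x ∈ q) :
    ∃ f ∉ q, ∀ (C : Type u) [CommRing C] [Algebra A C] [IsLocalization.Away f C],
      IsDomain C ∧ (Ideal.span {algebraMap A C x}).IsPrime := by
  have hA := h.reg
  have hD := h.regD
  obtain ⟨h1, h2, h3, -⟩ := h.localization q hq
  have h6 : IsDomain (Localization.AtPrime q) := Groth.Agent.CurvesC.RegNormal.isDomain _
  have hle : Ideal.span {x} ≤ q := by rwa [Ideal.span_singleton_le_iff_mem]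
  let q' : Ideal (A ⧸ Ideal.span {x}) := q.map (Ideal.Quotient.mk _)
  have hq' : q'.comap (Ideal.Quotient.mk _) = q := by
    rw [Ideal.comap_map_of_surjective _ Ideal.Quotient.mk_surjective, ← RingHom.ker_eq_comap_bot,
      Ideal.mk_ker, sup_eq_left]
    exact hle
  have hprime : q'.IsPrime := Ideal.map_isPrime_of_surjective Ideal.Quotient.mk_surjective
    (by rw [Ideal.mk_ker]; exact hle)
  have h7 : IsRegularLocalRing (Localization.AtPrime q') := (isRegularRing_iff (R := A ⧸ Ideal.span {x})).mp hD q'
  have h8 : IsDomain (Localization.AtPrime q') := Groth.Agent.CurvesC.RegNormal.isDomain _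
  obtain ⟨f, hf, Hf⟩ := exists_isDomain_away q h6
  obtain ⟨g, hg, Hg⟩ := exists_isDomain_away q' h8
  obtain ⟨g, rfl⟩ := Ideal.Quotient.mk_surjective g
  have hg' : g ∉ q := fun h0 => hg (Ideal.mem_map_of_mem _ h0)
  refine ⟨f * g, fun h0 => (Ideal.IsPrime.mem_or_mem ‹_› h0).elim hf hg', fun C _ _ _ => ⟨Hf g hg' C, ?_⟩⟩
  let D := C ⧸ (Ideal.span {x}).map (algebraMap A C)
  have hmk : Algebra.algebraMapSubmonoid (A ⧸ Ideal.span {x}) (Submonoid.powers (f * g)) =
      Submonoid.powers (Ideal.Quotient.mk (Ideal.span {x}) g * Ideal.Quotient.mk (Ideal.span {x}) f) := by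
    rw [Algebra.algebraMapSubmonoid, Submonoid.map_powers, ← map_mul, mul_comm g f]
    rfl
  have hloc : IsLocalization (Algebra.algebraMapSubmonoid (A ⧸ Ideal.span {x}) (Submonoid.powers (f * g))) D :=
    inferInstance
  rw [hmk] at hloc
  have hloc' : IsLocalization.Away (Ideal.Quotient.mk (Ideal.span {x}) g * Ideal.Quotient.mk (Ideal.span {x}) f) D :=
    hloc
  have hf' : Ideal.Quotient.mk (Ideal.span {x}) f ∉ q' := fun h0 => hf (by rw [← hq']; exact h0)
  have hdom : IsDomain D := Hg _ hf' D
  have h9 := (Ideal.Quotient.isDomain_iff_prime _).mp hdom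
  rwa [Ideal.map_span, Set.image_singleton] at h9

end RegPair

end Groth.Agent.Neron.K446.Local
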