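import Mathlib.AlgebraicGeometry.Gluing
import Mathlib.CategoryTheory.Limits.Shapes.WidePullbacks
import Mathlib.CategoryTheory.Comma.Over.Basic

/-!
# Gluing copies of a scheme along open immersions from a common scheme
-/

set_option autoImplicit false
universe u

open CategoryTheory CategoryTheory.Limits AlgebraicGeometry

namespace Groth.Agent.Neron.K446.WideGlue

theorem exists_glue {S : Scheme.{u}} {ι : Type u} [hι : Nonempty ι] (W P : Over S) (v : ι → (W ⟶ P))
    (hv : ∀ i, IsOpenImmersion (v i).left) :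
    ∃ (N : Over S) (φ : ι → (P ⟶ N)) (j : W ⟶ N), (∀ i, IsOpenImmersion (φ i).left) ∧
      (∀ i, v i ≫ φ i = j) ∧ (∀ n : N.left, ∃ i p, (φ i).left p = n) ∧
      (∀ i i' p q, (φ i).left p = (φ i').left q →
        (i = i' ∧ p = q) ∨ ∃ w, (v i).left w = p ∧ (v i').left w = q) := by
  let F : WidePushoutShape ι ⥤ Scheme.{u} :=
    WidePushoutShape.wideSpan W.left (fun _ : ι => P.left) (fun i => (v i).left)
  have hF : ∀ {i j : WidePushoutShape ι} (f : i ⟶ j), IsOpenImmersion (F.map f) := by
    intro i j f
    rcases f with _ | i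
    · exact inferInstanceAs (IsOpenImmersion (F.map (𝟙 _)))
    · exact hv i
  let c : Cocone F := WidePushoutShape.mkCocone (F := F) (X := S) W.hom (fun _ => P.hom) (fun i => Over.w (v i))
  let N : Over S := Over.mk (colimit.desc F c)
  have hφw : ∀ i : ι, colimit.ι F (some i) ≫ colimit.desc F c = P.hom := fun i => colimit.ι_desc c (some i)
  have hjw : colimit.ι F none ≫ colimit.desc F c = W.hom := colimit.ι_desc c none
  let φ : ι → (P ⟶ N) := fun i => Over.homMk (colimit.ι F (some i)) (hφw i)
  let j : W ⟶ N := Over.homMk (colimit.ι F none) hjw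
  have hvφ : ∀ i : ι, (v i).left ≫ colimit.ι F (some i) = colimit.ι F none := fun i =>
    colimit.w F (WidePushoutShape.Hom.init i)
  refine ⟨N, φ, j, fun i => inferInstanceAs (IsOpenImmersion (colimit.ι F (some i))), fun i => ?_, ?_, ?_⟩
  · ext1
    exact hvφ i
  · intro n
    obtain ⟨k, xk, hk⟩ := Scheme.IsLocallyDirected.ι_jointly_surjective F n
    rcases k with _ | i
    · obtain ⟨i⟩ := hι
      refine ⟨i, (v i).left xk, ?_⟩
      have h1 : ∀ w : W.left, ((v i).left ≫ colimit.ι F (some i)) w = (colimit.ι F none) w := fun w => by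
        rw [hvφ]; rfl
      exact (h1 xk).trans hk
    · exact ⟨i, xk, hk⟩
  · intro i i' p q hpq
    obtain ⟨k, fi, fj, x, hx1, hx2⟩ := (Scheme.IsLocallyDirected.ι_eq_ι_iff F (i := some i) (j := some i')).mp hpq
    rcases k with _ | k
    · right
      refine ⟨x, ?_, ?_⟩
      · rw [← hx1]
        cases fi
        rfl
      · rw [← hx2]
        cases fj
        rfl
    · left
      cases fi
      cases fj
      refine ⟨rfl, ?_⟩
      rw [← hx1, ← hx2]

end Groth.Agent.Neron.K446.WideGlue
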