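import Groth.Agent.Neron.K446.Nbhd
import Groth.Agent.Neron.K446.WideGlue

/-!
# Twisted charts

For `b ∈ G(A'[1/x])` the morphism `G_{A'[1/x]} → G_{A'}`, `g ↦ g b⁻¹`.
-/

set_option autoImplicit false
universe u

open IsLocalRing CategoryTheory CategoryTheory.Limits AlgebraicGeometry MonObj
open MonoidalCategory CartesianMonoidalCategory

namespace Groth.Agent.Neron.K446.Local

open Groth.Agent.Sga67.TorsionLift (sp spMap spMap_comp)

variable {A : Type u} [CommRing A] (x : A) (G : Over (Spec (CommRingCat.of A))) [GrpObj G]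
  (A' : Type u) [CommRing A'] [Algebra A A']

/-- `Spec A'[1/x]` over `Spec A`. -/
noncomputable abbrev Yx : Over (Spec (CommRingCat.of A)) := sp A (Rx x A')

variable {x A'}

/-- `g ↦ g b⁻¹` -/
noncomputable def tw (b : Yx x A' ⟶ G) : G ⊗ Yx x A' ⟶ G := fst G (Yx x A') * (snd G (Yx x A') ≫ b)⁻¹

/-- The translation. -/
noncomputable def tr (b : Yx x A' ⟶ G) : G ⊗ Yx x A' ⟶ G ⊗ Yx x A' := lift (tw G b) (snd _ _)

@[reassoc]
theorem tr_fst (b : Yx x A' ⟶ G) : tr G b ≫ fst _ _ = tw G b := lift_fst _ _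

@[reassoc]
theorem tr_snd (b : Yx x A' ⟶ G) : tr G b ≫ snd _ _ = snd _ _ := lift_snd _ _

theorem comp_tw {T : Over (Spec (CommRingCat.of A))} (w : T ⟶ G ⊗ Yx x A') (b : Yx x A' ⟶ G) :
    w ≫ tw G b = (w ≫ fst _ _) * ((w ≫ snd _ _) ≫ b)⁻¹ := by
  rw [tw, MonObj.comp_mul, GrpObj.comp_inv, Category.assoc]

variable {G} in
theorem lift_tw {T : Over (Spec (CommRingCat.of A))} (g : T ⟶ G) (y : T ⟶ Yx x A') (b : Yx x A' ⟶ G) :
    lift g y ≫ tw G b = g * (y ≫ b)⁻¹ := by
  rw [comp_tw, lift_fst, lift_snd]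

theorem tr_tr [IsCommMonObj G] (b b' : Yx x A' ⟶ G) : tr G b ≫ tr G b' = tr G (b * b') := by
  apply CartesianMonoidalCategory.hom_ext
  · rw [Category.assoc, tr_fst, tr_fst, comp_tw, tr_fst, tr_snd, tw, tw, MonObj.comp_mul, _root_.mul_inv,
      _root_.mul_assoc]
  · rw [Category.assoc, tr_snd, tr_snd, tr_snd]

theorem tr_one : tr G (1 : Yx x A' ⟶ G) = 𝟙 _ := by
  apply CartesianMonoidalCategory.hom_ext
  · rw [tr_fst, tw, MonObj.comp_one, inv_one, _root_.mul_one, Category.id_comp]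
  · rw [tr_snd, Category.id_comp]

instance isIso_tr [IsCommMonObj G] (b : Yx x A' ⟶ G) : IsIso (tr G b) :=
  ⟨tr G b⁻¹, by rw [tr_tr, _root_.mul_inv_cancel, tr_one], by rw [tr_tr, _root_.inv_mul_cancel, tr_one]⟩

variable (x A') in
/-- `G_{A'[1/x]}` over `Spec A'`. -/
noncomputable abbrev WS : Over (Spec (CommRingCat.of A')) :=
  Over.mk ((snd G (Yx x A')).left ≫ st A' (Rx x A'))

variable (A') in
/-- `G_{A'}` over `Spec A'`. -/
noncomputable abbrev PS : Over (Spec (CommRingCat.of A')) := Over.mk (pullback.snd G.hom (st A A'))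

theorem vm_aux (b : Yx x A' ⟶ G) : (tw G b).left ≫ G.hom =
    ((snd G (Yx x A')).left ≫ st A' (Rx x A')) ≫ st A A' := by
  rw [Over.w, Category.assoc, st_comp]
  exact (Over.w (snd G (Yx x A'))).symm

/-- The chart attached to `b`. -/
noncomputable def vm (b : Yx x A' ⟶ G) : WS x G A' ⟶ PS G A' :=
  Over.homMk (pullback.lift (tw G b).left ((snd G (Yx x A')).left ≫ st A' (Rx x A')) (vm_aux G b))
    (pullback.lift_snd _ _ _)

@[reassoc]
theorem vm_fst (b : Yx x A' ⟶ G) : (vm G b).left ≫ pullback.fst G.hom (st A A') = (tw G b).left :=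
  pullback.lift_fst _ _ _

@[reassoc]
theorem vm_snd (b : Yx x A' ⟶ G) : (vm G b).left ≫ pullback.snd G.hom (st A A') =
    (snd G (Yx x A')).left ≫ st A' (Rx x A') :=
  pullback.lift_snd _ _ _

theorem isPullback_tw [IsCommMonObj G] (b : Yx x A' ⟶ G) :
    IsPullback (tw G b).left (snd G (Yx x A')).left G.hom (st A (Rx x A')) := by
  have h1 : IsPullback (fst G (Yx x A')).left (snd G (Yx x A')).left G.hom (st A (Rx x A')) :=
    IsPullback.of_hasPullback G.hom (st A (Rx x A'))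
  have h2 : IsIso (tr G b).left := inferInstanceAs (IsIso ((Over.forget _).map (tr G b)))
  refine IsPullback.of_iso h1 (asIso (tr G b).left).symm (Iso.refl _) (Iso.refl _) (Iso.refl _) ?_ ?_ ?_ ?_
  · rw [Iso.refl_hom, Category.comp_id, Iso.symm_hom, asIso_inv, IsIso.eq_inv_comp, ← Over.comp_left, tr_fst]
  · rw [Iso.refl_hom, Category.comp_id, Iso.symm_hom, asIso_inv, IsIso.eq_inv_comp, ← Over.comp_left, tr_snd]
  · simp
  · simp

theorem isPullback_vm [IsCommMonObj G] (b : Yx x A' ⟶ G) :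
    IsPullback (vm G b).left (snd G (Yx x A')).left (PS G A').hom (st A' (Rx x A')) := by
  refine IsPullback.of_right (h₁₂ := pullback.fst G.hom (st A A')) (h₂₂ := st A A') (v₁₃ := G.hom) ?_
    (vm_snd G b) (IsPullback.of_hasPullback _ _)
  rw [vm_fst, st_comp]
  exact isPullback_tw G b

instance isOpenImmersion_st_Rx : IsOpenImmersion (st A' (Rx x A')) :=
  IsOpenImmersion.of_isLocalization (algebraMap A A' x)

instance isOpenImmersion_vm [IsCommMonObj G] (b : Yx x A' ⟶ G) : IsOpenImmersion (vm G b).left :=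
  MorphismProperty.of_isPullback (P := @IsOpenImmersion) (isPullback_vm G b).flip inferInstance

theorem range_vm [IsCommMonObj G] (b : Yx x A' ⟶ G) :
    Set.range (vm G b).left = (PS G A').hom ⁻¹' Set.range (st A' (Rx x A')) := by
  have h := isPullback_vm G b
  have h1 : (vm G b).left = h.isoPullback.hom ≫ pullback.fst _ _ := h.isoPullback_hom_fst.symm
  rw [h1, ← Scheme.Pullback.range_fst]
  ext z
  constructor
  · rintro ⟨y, rfl⟩
    exact ⟨h.isoPullback.hom y, by rw [← Scheme.Hom.comp_apply]⟩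
  · rintro ⟨y, rfl⟩
    refine ⟨h.isoPullback.inv y, ?_⟩
    rw [← Scheme.Hom.comp_apply, Iso.inv_hom_id_assoc]

end Groth.Agent.Neron.K446.Local
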