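import Groth.Agent.Neron.K446.Local
import Groth.Agent.Neron.K446.HensDvr

/-!
# Extension of points of a semi-abelian scheme over strictly henselian regular local rings

* `exists_root`: sections over a strictly henselian local ring are divisible.
* `mem_ext_of_divisible`: divisible points of the generic part extend.
* `mem_ext_of_map`: a point over `R[1/x]` extends to `R` if it extends after `R → R'`.
* `exists_decomp`: over a discrete valuation ring every point is the product of a torsion point and a point
  which extends.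
-/

set_option autoImplicit false
universe u

open IsLocalRing CategoryTheory CategoryTheory.Limits AlgebraicGeometry MonObj
open MonoidalCategory CartesianMonoidalCategory

namespace Groth.Agent.Neron.K446.Local

open Groth.Agent.Sga67.TorsionLift (sp spMap spMap_comp)
open Groth.Agent.Sga7.H729.Dict (bcPts bcPts_left compHom)

section Sections

theorem sp_self_hom (R : Type u) [CommRing R] : (sp R R).hom = 𝟙 (Spec (CommRingCat.of R)) := Spec.map_id _

instance isIso_toUnit (R : Type u) [CommRing R] : IsIso (toUnit (sp R R)) := by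
  have h1 : IsIso ((Over.forget _).map (toUnit (sp R R))) := by
    change IsIso (toUnit (sp R R)).left
    rw [Over.toUnit_left, sp_self_hom]
    exact IsIso.id _
  exact isIso_of_reflects_iso _ (Over.forget _)

/-- Divisibility of sections of a group scheme with connected special fibre. -/
theorem exists_root_aux (R : Type u) [CommRing R] [IsNoetherianRing R]
    [HenselianLocalRing R] [IsSepClosed (ResidueField R)] (N : Over (Spec (CommRingCat.of R))) [GrpObj N]
    [IsCommMonObj N] [Smooth N.hom] [QuasiCompact N.hom] (n : ℕ) (het : Etale (𝟙 N ^ n).left)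
    (h1 : ConnectedSpace ↑(pullback N.hom (Spec.map (CommRingCat.ofHom (residue R)))))
    (c : sp R R ⟶ N) : ∃ d : sp R R ⟶ N, d ^ n = c := by
  have hR : EtCoh.IsStrictlyHenselianLocalRing R := ⟨inferInstance, inferInstance⟩
  let t : Spec (CommRingCat.of (ResidueField R)) ⟶ Spec (CommRingCat.of R) :=
    Spec.map (CommRingCat.ofHom (residue R))
  let z : 𝟙_ (Over (Spec (CommRingCat.of R))) ⟶ N := inv (toUnit (sp R R)) ≫ c
  have hF : _root_.IsPreconnected (SGA7.specialFibreSet R N) := by
    have h2 : Set.range t = {closedPoint R} := by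
      have h3 : ∀ y, t y = closedPoint R := fun y => by
        have : y = closedPoint (ResidueField R) := Subsingleton.elim _ _
        subst this
        exact IsLocalRing.comap_closedPoint (residue R)
      ext y
      constructor
      · rintro ⟨w, rfl⟩
        exact h3 w
      · rintro rfl
        exact ⟨closedPoint _, h3 _⟩
    have h4 : SGA7.specialFibreSet R N = Set.range (pullback.fst N.hom t) := by
      rw [Scheme.Pullback.range_fst, h2]
      rfl
    rw [h4]
    exact isPreconnected_range (pullback.fst N.hom t).continuous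
  have hz : z ∈ SGA7.secUnitComp R N := by
    change z.left.base (IsLocalRing.closedPoint R) ∈
      connectedComponentIn (SGA7.specialFibreSet R N) (η[N].left.base (IsLocalRing.closedPoint R))
    exact hF.subset_connectedComponentIn (Groth.Agent.Sga7.H750.SecComp.section_mem_specialFibreSet N η[N])
      (le_refl _) (Groth.Agent.Sga7.H750.SecComp.section_mem_specialFibreSet N z)
  obtain ⟨w, -, hw⟩ := Groth.Agent.Sga7.H751.SecRoot.exists_root_mem_secUnitComp N hR n z hz
  refine ⟨toUnit (sp R R) ≫ w, ?_⟩
  rw [← MonObj.comp_pow, hw, IsIso.hom_inv_id_assoc]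

end Sections

section Main

variable {A : Type u} [CommRing A] {x : A} {G : Over (Spec (CommRingCat.of A))} [GrpObj G]

/-- Sections of the base change. -/
noncomputable abbrev bcS (G : Over (Spec (CommRingCat.of A))) [GrpObj G] (R : Type u) [CommRing R] [Algebra A R] :
    (sp R R ⟶ Red.bc (st A R) G) ≃* (sp A R ⟶ G) :=
  bcSp (R := R) (T := R) G

theorem bcSp_ofId (R T : Type u) [CommRing R] [Algebra A R] [CommRing T] [Algebra R T] [Algebra A T]
    [IsScalarTower A R T] (z : sp R R ⟶ Red.bc (st A R) G) :
    bcSp G (spMap (Algebra.ofId R T) ≫ z) = spMap (IsScalarTower.toAlgHom A R T) ≫ bcS G R z := by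
  rw [bcSp_spMap]
  rfl

/-- Sections over a strictly henselian local ring are divisible. -/
theorem SA.exists_root [IsCommMonObj G] [Smooth G.hom] [QuasiCompact G.hom]
    (hG : SA x G) (R : Type u) [CommRing R] [Algebra A R] [IsNoetherianRing R]
    [HenselianLocalRing R] [IsSepClosed (ResidueField R)] (c : sp A R ⟶ G) (n : ℕ) (hn : 0 < n) :
    ∃ d : sp A R ⟶ G, d ^ n = c := by
  have hN := hG.bc R
  have hcomm : IsCommMonObj (Red.bc (st A R) G) := inferInstance
  obtain ⟨w, hw⟩ := exists_root_aux R (Red.bc (st A R) G) n (hN.etale_pow n hn)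
    (hN.conn (ResidueField R) (Spec.map (CommRingCat.ofHom (residue R)))) ((bcS G R).symm c)
  refine ⟨bcS G R w, ?_⟩
  rw [← map_pow, hw, MulEquiv.apply_symm_apply]

/-- Divisible points of the generic part extend. -/
theorem SA.mem_ext_of_divisible [IsCommMonObj G] [Smooth G.hom] [IsSeparated G.hom] [QuasiCompact G.hom]
    (hE : DivExt.{u}) (hG : SA x G) (R : Type u) [CommRing R] [Algebra A R]
    [IsRegularLocalRing R] [IsSepClosed (ResidueField R)] [CharZero (ResidueField R)]
    (hR : Par x R) (c : sp A (Rx x R) ⟶ G) (hc : ∀ n : ℕ, 0 < n → ∃ y : sp A (Rx x R) ⟶ G, y ^ n = c) :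
    c ∈ ext x G R := by
  have hN := hG.bc R
  have hcomm : IsCommMonObj (Red.bc (st A R) G) := inferInstance
  have hx0 : algebraMap A R x ≠ 0 := by
    intro h
    have := hR.notMem
    rw [h] at this
    exact this (Ideal.zero_mem _)
  obtain ⟨c', hc'⟩ := hE R (algebraMap A R x) hx0 (Red.bc (st A R) G) hN.sab hN.conn hN.prop
    ((bcSp (R := R) (T := Rx x R) G).symm c) (fun n hn => by
      obtain ⟨y, hy⟩ := hc n hn
      exact ⟨(bcSp (R := R) (T := Rx x R) G).symm y, by rw [← map_pow, hy]⟩)
  refine ⟨bcS G R c', ?_⟩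
  have h1 := bcSp_ofId R (Rx x R) c'
  rw [hc', MulEquiv.apply_symm_apply] at h1
  exact h1.symm

/-- A point over `R[1/x]` extends to `R` if it extends after `R → R'`. -/
theorem SA.mem_ext_of_map [IsCommMonObj G] [Smooth G.hom] [IsSeparated G.hom] [QuasiCompact G.hom]
    (hE : DivExt.{u}) (hG : SA x G) {R R' : Type u} [CommRing R] [CommRing R']
    [Algebra A R] [Algebra A R']
    [IsRegularLocalRing R] [HenselianLocalRing R] [IsSepClosed (ResidueField R)] [CharZero (ResidueField R)]
    [IsRegularLocalRing R'] [HenselianLocalRing R'] [IsSepClosed (ResidueField R')]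
    (φ : R →ₐ[A] R') (hR : Par x R) (hR' : Par x R') (c : sp A (Rx x R) ⟶ G)
    (hc : spMap (locx x φ) ≫ c ∈ ext x G R') : c ∈ ext x G R := by
  refine hG.mem_ext_of_divisible hE R hR c fun n hn => ?_
  obtain ⟨c', hc'⟩ := hc
  obtain ⟨d, hd⟩ := hG.exists_root R' c' n hn
  obtain ⟨y, hy, -⟩ := hG.exists_root_descend φ hR hR' n hn c (rx x R' ≫ d) (by
    rw [← MonObj.comp_pow, hd]
    exact hc')
  exact ⟨y, hy⟩

/-- Torsion points descend. -/
theorem SA.exists_torsion_descend [IsCommMonObj G] [Smooth G.hom] (hG : SA x G) {R R' : Type u} [CommRing R]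
    [CommRing R'] [Algebra A R] [Algebra A R'] [IsRegularLocalRing R] [HenselianLocalRing R]
    [IsSepClosed (ResidueField R)] [CharZero (ResidueField R)] [IsRegularLocalRing R'] (φ : R →ₐ[A] R')
    (hR : Par x R) (hR' : Par x R') (n : ℕ) (hn : 0 < n) (d' : sp A (Rx x R') ⟶ G) (hd' : d' ^ n = 1) :
    ∃ d : sp A (Rx x R) ⟶ G, d ^ n = 1 ∧ spMap (locx x φ) ≫ d = d' :=
  hG.exists_root_descend φ hR hR' n hn 1 d' (by rw [hd', MonObj.comp_one])

/-- Over a strictly henselian discrete valuation ring of residue characteristic zero every generic point is the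
product of a torsion point and of a point which extends. -/
theorem SA.exists_decomp [IsCommMonObj G] [Smooth G.hom] [IsSeparated G.hom] [QuasiCompact G.hom]
    (hP : PowExt.{u}) (hG : SA x G) (V : Type u) [CommRing V] [Algebra A V]
    [IsDomain V] [IsDiscreteValuationRing V] [HenselianLocalRing V] [IsSepClosed (ResidueField V)]
    [CharZero (ResidueField V)] (hV : maximalIdeal V = Ideal.span {algebraMap A V x}) :
    ∃ m : ℕ, 0 < m ∧ ∀ c : sp A (Rx x V) ⟶ G, ∃ ε : sp A (Rx x V) ⟶ G, ε ^ m = 1 ∧
      ∃ δ ∈ ext x G V, c = ε * δ := by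
  have hN := hG.bc V
  have hcomm : IsCommMonObj (Red.bc (st A V) G) := inferInstance
  have hx0 : algebraMap A V x ≠ 0 := by
    intro h
    rw [h, Ideal.span_singleton_eq_bot.mpr rfl] at hV
    exact IsDiscreteValuationRing.not_a_field V hV
  have hfrac : IsFractionRing V (Rx x V) := by
    have hle : Submonoid.powers (algebraMap A V x) ≤ nonZeroDivisors V :=
      powers_le_nonZeroDivisors_of_noZeroDivisors hx0
    refine IsLocalization.of_le_of_exists_dvd (S := Rx x V) (Submonoid.powers (algebraMap A V x))
      (nonZeroDivisors V) hle fun s hs => ?_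
    have hs0 : s ≠ 0 := nonZeroDivisors.ne_zero hs
    have hirr : Irreducible (algebraMap A V x) :=
      (IsDiscreteValuationRing.irreducible_iff_uniformizer _).mpr hV
    obtain ⟨n, hn⟩ := IsDiscreteValuationRing.associated_pow_irreducible hs0 hirr
    exact ⟨algebraMap A V x ^ n, ⟨n, rfl⟩, hn.dvd⟩
  let fld : Field (Rx x V) := IsFractionRing.toField V
  obtain ⟨m, hm, H⟩ := hP V (Rx x V) (Red.bc (st A V) G) hN.sab hN.conn hN.prop
  refine ⟨m, hm, fun c => ?_⟩
  obtain ⟨c', hc'⟩ := H ((bcSp (R := V) (T := Rx x V) G).symm c)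
  obtain ⟨d, hd⟩ := hG.exists_root V (bcS G V c') m hm
  have h1 := bcSp_ofId V (Rx x V) c'
  rw [hc', map_pow, MulEquiv.apply_symm_apply] at h1
  have h2 : (rx x V ≫ d) ^ m = c ^ m := by
    rw [← MonObj.comp_pow, hd]
    exact h1.symm
  refine ⟨c * (rx x V ≫ d)⁻¹, ?_, rx x V ≫ d, ⟨d, rfl⟩, ?_⟩
  · rw [mul_pow, inv_pow, h2, mul_inv_cancel]
  · rw [_root_.inv_mul_cancel_right]

end Main

end Groth.Agent.Neron.K446.Local
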